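import Cfsg.Agent.OddHalf.SL.Rest
import Cfsg.Agent.OddHalf.SL.OfDatum
import Cfsg.Agent.OddHalf.SL.Base0
import Cfsg.Agent.KFacts.RgdAutN

-- merged: Cfsg.Agent.OddHalf.SL.TwoMain
section

/-!
# THEOREM SL for `q = 2`

`dbl_of_two`: `PreY`, `Two` ⇒ `Dbl` (simply laced `Φ`, every pair at `60°` lies in a triple).

The only problem is `t ∉ F = ⟨W r, W s ^ X (r - s)⟩`. Otherwise `g y_s g = y_s y_r t e` (`Eps`), the elements
`a_r = y_r t` have order 4 and commute, and the action of `x_{r-s}`, `x_{m-s}` on `a_s` gives `x_r = x_m`.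
-/

set_option autoImplicit false

namespace Cfsg.Agent.OddHalf.SL.TwoMain

open Cfsg.Agent.OddHalf.SL.Defs Cfsg.Agent.OddHalf.SL.General Cfsg.Agent.OddHalf.SL.Core
open Cfsg.Agent.OddHalf.SL.One Cfsg.Agent.OddHalf.SL.Rest

variable {L : Type*} [AddCommGroup L] {G : Type*} [Group G]
variable {t : G} {B : L → L → ℤ} {Φ : Set L} {X W : L → Subgroup G} {Y : L → L → Set G}

theorem bt_cancel (h : PreY t B Φ X W Y) {r : L} (hr : r ∈ Φ) {w w' : G} (hw : w ∈ W r) (hw' : w' ∈ W r)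
    (he : bt t w = bt t w') : w⁻¹ * w' ∈ X r := by
  apply mem_X_of_bt h hr (mul_mem (inv_mem hw) hw')
  rw [bt_hom h hr (inv_mem hw) hw', ← he]
  have h4 := bt_hom h hr (inv_mem hw) hw
  rw [inv_mul_cancel, bt_of_comm h.tt (by rw [mul_one, one_mul])] at h4
  exact h4.symm

/-- `[g, y] ≠ 1` -/
theorem conj_ne (h : PreY t B Φ X W Y) {r s : L} (T : Tri B Φ r s) {g y : G} (hg : g ∈ X (r - s)) (hg1 : g ≠ 1)
    (hy : y ∈ X s) (hy1 : y ≠ 1) : g * y * g⁻¹ * y⁻¹ ≠ 1 := by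
  intro h1
  have h2 : g * y = y * g := by
    calc g * y = (g * y * g⁻¹ * y⁻¹) * (y * g) := by group
      _ = y * g := by rw [h1, one_mul]
  rcases h.Xnd _ T.hd _ T.hs T.ds g hg y hy h2 with h3 | h3
  · exact hg1 h3
  · exact hy1 h3

/-- the Weyl element `q⁻¹ g` maps `W s` onto `W r` -/
theorem nW (h : PreY t B Φ X W Y) (hb : Two B Φ X W) {r s : L} (T : Tri B Φ r s) {g q : G} (hg : g ∈ X (r - s))
    (hg1 : g ≠ 1) (hq : q ∈ X (s - r)) (hq1 : q ≠ 1) (w : G) :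
    w ∈ W s ↔ (q⁻¹ * g) * w * (q⁻¹ * g)⁻¹ ∈ W r := by
  obtain ⟨q', hq', hqw⟩ := h.tri r T.hr s T.hs T.rs g hg hg1
  have hq'1 : q' ≠ 1 := by
    rintro rfl
    obtain ⟨x, hx, hx1⟩ := exists_ne h T.hs
    have h1 := (hqw x).1 (h.XW s T.hs hx)
    have e : (1 : G)⁻¹ * (g * x * g⁻¹) * 1 = g * x * g⁻¹ := by group
    rw [e] at h1
    have c1 : Commute t g := h.tX _ T.hd g hg
    have c2 : Commute t x := h.tX s T.hs x hx
    have h2 : g * x * g⁻¹ ∈ X r := h.cent r T.hr _ h1 ((c1.mul_right c2).mul_right c1.inv_right).eq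
    have h3 := conj_X h T hg hx
    have h4 : x ∈ X r := by
      have : x = (g * x * g⁻¹ * x⁻¹)⁻¹ * (g * x * g⁻¹) := by group
      rw [this]; exact mul_mem (inv_mem h3) h2
    exact hx1 (disj h T h4 hx)
  rw [hqw w, hb.card _ T.hd' q hq q' hq' hq1 hq'1]
  have e : (q'⁻¹ * g) * w * (q'⁻¹ * g)⁻¹ = q'⁻¹ * (g * w * g⁻¹) * q' := by group
  rw [e]

theorem n_comm_t (h : PreY t B Φ X W Y) {r s : L} (T : Tri B Φ r s) {g q : G} (hg : g ∈ X (r - s))
    (hq : q ∈ X (s - r)) : (q⁻¹ * g) * t = t * (q⁻¹ * g) := by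
  have c1 : Commute t g := h.tX _ T.hd g hg
  have c2 : Commute t q := h.tX _ T.hd' q hq
  exact (c2.inv_right.mul_right c1).symm.eq

theorem nX (h : PreY t B Φ X W Y) (hb : Two B Φ X W) {r s : L} (T : Tri B Φ r s) {g q : G} (hg : g ∈ X (r - s))
    (hg1 : g ≠ 1) (hq : q ∈ X (s - r)) (hq1 : q ≠ 1) {x : G} (hx : x ∈ X s) :
    (q⁻¹ * g) * x * (q⁻¹ * g)⁻¹ ∈ X r := by
  apply h.cent r T.hr _ ((nW h hb T hg hg1 hq hq1 x).1 (h.XW s T.hs hx))
  have c1 : Commute (q⁻¹ * g) t := n_comm_t h T hg hq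
  have c2 : Commute t x := h.tX s T.hs x hx
  exact ((c1.symm.mul_right c2).mul_right c1.symm.inv_right).eq

/-! ### The dichotomy -/

/-- `g y_s g⁻¹ ∈ y_s y_r t E` -/
def Eps (t : G) (X W : L → Subgroup G) (r s : L) : Prop :=
  ∃ g ∈ X (r - s), ∃ v ∈ W r, ∃ u ∈ W s, g ≠ 1 ∧ bt t v ≠ 1 ∧ bt t u ≠ 1 ∧
    ∃ x ∈ X r, ∃ y ∈ X s, g * u * g⁻¹ = u * v * t * (x * y)

theorem Eps.all (h : PreY t B Φ X W Y) (hb : Two B Φ X W) {r s : L} (T : Tri B Φ r s) (hE : Eps t X W r s) :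
    ∀ g ∈ X (r - s), ∀ v ∈ W r, ∀ u ∈ W s, g ≠ 1 → bt t v ≠ 1 → bt t u ≠ 1 →
    ∃ x ∈ X r, ∃ y ∈ X s, g * u * g⁻¹ = u * v * t * (x * y) := by
  obtain ⟨g', hg', v', hv', u', hu', hg1', hbv', hbu', x', hx', y', hy', he⟩ := hE
  intro g hg v hv u hu hg1 hbv hbu
  have e1 : g = g' := hb.card _ T.hd g hg g' hg' hg1 hg1'
  subst e1
  have h1 : bt t v' = bt t v := hb.card r T.hr _ (bt_mem h T.hr hv') _ (bt_mem h T.hr hv) hbv' hbv
  have h2 : bt t u' = bt t u := hb.card s T.hs _ (bt_mem h T.hs hu') _ (bt_mem h T.hs hu) hbu' hbu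
  obtain ⟨x1, hx1e⟩ : ∃ x1, x1 = v'⁻¹ * v := ⟨_, rfl⟩
  obtain ⟨y1, hy1e⟩ : ∃ y1, y1 = u'⁻¹ * u := ⟨_, rfl⟩
  have hx1 : x1 ∈ X r := by rw [hx1e]; exact bt_cancel h T.hr hv' hv h1
  have hy1 : y1 ∈ X s := by rw [hy1e]; exact bt_cancel h T.hs hu' hu h2
  have ev : v = v' * x1 := by rw [hx1e]; group
  have eu : u = u' * y1 := by rw [hy1e]; group
  obtain ⟨x2, hx2e⟩ : ∃ x2, x2 = g * y1 * g⁻¹ * y1⁻¹ := ⟨_, rfl⟩
  have hx2 : x2 ∈ X r := by rw [hx2e]; exact conj_X h T hg hy1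
  have hrs : 0 ≤ B r s := by rw [T.rs]; norm_num
  have cxy : ∀ x ∈ X r, ∀ y ∈ X s, Commute x y := fun x hx y hy => XX h T.hr T.hs hrs hx hy
  have cxx : ∀ x ∈ X r, ∀ y ∈ X r, Commute x y := fun x hx y hy => XX h T.hr T.hr (rr h T.hr) hx hy
  have cyv : ∀ y ∈ X s, Commute v' y := fun y hy => h.WX r T.hr s T.hs (by rw [T.sr]; norm_num) v' hv' y hy
  have ctx : ∀ x ∈ X r, Commute t x := fun x hx => h.tX r T.hr x hx
  have cty : ∀ y ∈ X s, Commute t y := fun y hy => h.tX s T.hs y hy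
  refine ⟨x1⁻¹ * x' * x2, mul_mem (mul_mem (inv_mem hx1) hx') hx2, y1⁻¹ * y' * y1,
    mul_mem (mul_mem (inv_mem hy1) hy') hy1, ?_⟩
  have e3 : g * u * g⁻¹ = u' * v' * t * (x' * y') * (x2 * y1) := by
    rw [← he, hx2e, eu]; group
  rw [e3, ev, eu]
  have c1 : y1 * v' = v' * y1 := (cyv y1 hy1).symm.eq
  have c2 : x1 * t = t * x1 := (ctx x1 hx1).symm.eq
  have c3 : y1 * t = t * y1 := (cty y1 hy1).symm.eq
  have c4 : y' * x2 = x2 * y' := (cxy x2 hx2 y' hy').symm.eq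
  have c5 : y1 * x1 = x1 * y1 := (cxy x1 hx1 y1 hy1).symm.eq
  have c6 : y1 * (x' * x2) = (x' * x2) * y1 := (cxy (x' * x2) (mul_mem hx' hx2) y1 hy1).symm.eq
  calc u' * v' * t * (x' * y') * (x2 * y1) = u' * v' * t * x' * (y' * x2) * y1 := by group
    _ = u' * v' * t * ((x' * x2) * y' * y1) := by rw [c4]; group
    _ = u' * v' * t * (y1 * y1⁻¹ * (x' * x2) * y' * y1) := by group
    _ = u' * v' * t * (y1 * ((x' * x2) * y1⁻¹) * y' * y1) := by
        have : y1⁻¹ * (x' * x2) = (x' * x2) * y1⁻¹ :=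
          ((cxy (x' * x2) (mul_mem hx' hx2) y1 hy1).symm.inv_left).eq
        rw [mul_assoc y1 y1⁻¹, this]
    _ = u' * v' * (t * y1) * (x' * x2) * (y1⁻¹ * y' * y1) := by group
    _ = u' * (v' * y1) * t * (x' * x2) * (y1⁻¹ * y' * y1) := by rw [← c3]; group
    _ = u' * (y1 * v') * t * (x' * x2) * (y1⁻¹ * y' * y1) := by rw [c1]
    _ = u' * y1 * v' * (t * x1) * (x1⁻¹ * x' * x2) * (y1⁻¹ * y' * y1) := by group
    _ = u' * y1 * v' * (x1 * t) * (x1⁻¹ * x' * x2) * (y1⁻¹ * y' * y1) := by rw [← c2]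
    _ = u' * y1 * (v' * x1) * t * (x1⁻¹ * x' * x2 * (y1⁻¹ * y' * y1)) := by group

theorem k_comm (h : PreY t B Φ X W Y) {r s : L} (T : Tri B Φ r s) {g u v : G} (hg : g ∈ X (r - s))
    (hu : u ∈ W s) (hv : v ∈ W r) (hbv : bt t v = g * bt t u * g⁻¹ * (bt t u)⁻¹) :
    (v⁻¹ * u⁻¹ * (g * u * g⁻¹)) * t = t * (v⁻¹ * u⁻¹ * (g * u * g⁻¹)) := by
  obtain ⟨y0, hy0⟩ : ∃ y0, y0 = bt t u := ⟨_, rfl⟩
  have hy0X : y0 ∈ X s := by rw [hy0]; exact bt_mem h T.hs hu
  obtain ⟨x', hx'e⟩ : ∃ x', x' = bt t v := ⟨_, rfl⟩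
  have hx' : x' ∈ X r := by rw [hx'e]; exact bt_mem h T.hr hv
  have hgt : g * t = t * g := (h.tX _ T.hd g hg).symm
  have hti := ti h
  have ti' : ∀ x : G, t * x⁻¹ * t = (t * x * t)⁻¹ := by
    intro x; rw [mul_inv_rev, mul_inv_rev, hti]; group
  have hxE : x' ∈ Es h T := Es_left h T hx'
  have hyE : y0 ∈ Es h T := Es_right h T hy0X
  refine t_comm_of h.tt (c' := (v * x')⁻¹ * (u * y0)⁻¹ * ((g * u * g⁻¹) * (x' * y0))) ?_ ?_
  · have e1 : t * (g * u * g⁻¹) * t = (g * u * g⁻¹) * (x' * y0) := by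
      rw [tw, bt_conj hgt, hx'e, hbv, hy0]; group
    calc t * (v⁻¹ * u⁻¹ * (g * u * g⁻¹)) * t = (t * v⁻¹ * t) * (t * u⁻¹ * t) * (t * (g * u * g⁻¹) * t) := by
          calc t * (v⁻¹ * u⁻¹ * (g * u * g⁻¹)) * t = t * v⁻¹ * u⁻¹ * (g * u * g⁻¹) * t := by group
            _ = t * v⁻¹ * (t * t) * u⁻¹ * (t * t) * (g * u * g⁻¹) * t := by rw [h.tt]; group
            _ = _ := by group
      _ = (v * x')⁻¹ * (u * y0)⁻¹ * ((g * u * g⁻¹) * (x' * y0)) := by
          rw [ti', ti', tw t v, tw t u, ← hx'e, ← hy0, e1]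
  · have hvF := Wr_le X W r s hv
    have huF := Ws_le X W r s hu
    have hgF := conj_mem_Fs hg hu
    have c1 := fs_comm_Es h T (mul_mem hxE hyE) (mul_mem (mul_mem (inv_mem hvF) (inv_mem huF)) hgF)
    have c4 : x' * y0 = y0 * x' := XX h T.hr T.hs (by rw [T.rs]; norm_num) hx' hy0X
    have c7 : Commute y0 v⁻¹ := (fs_comm_Es h T hyE (inv_mem hvF)).symm
    rw [mul_inv_rev, mul_inv_rev]
    calc x'⁻¹ * v⁻¹ * (y0⁻¹ * u⁻¹) * (g * u * g⁻¹ * (x' * y0))
        = x'⁻¹ * (v⁻¹ * y0⁻¹) * u⁻¹ * (g * u * g⁻¹) * (x' * y0) := by group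
      _ = x'⁻¹ * (y0⁻¹ * v⁻¹) * u⁻¹ * (g * u * g⁻¹) * (x' * y0) := by rw [c7.inv_left.eq]
      _ = x'⁻¹ * y0⁻¹ * ((v⁻¹ * u⁻¹ * (g * u * g⁻¹)) * (x' * y0)) := by group
      _ = x'⁻¹ * y0⁻¹ * ((x' * y0) * (v⁻¹ * u⁻¹ * (g * u * g⁻¹))) := by rw [c1]
      _ = (y0 * x')⁻¹ * (x' * y0) * (v⁻¹ * u⁻¹ * (g * u * g⁻¹)) := by group
      _ = v⁻¹ * u⁻¹ * (g * u * g⁻¹) := by rw [c4, inv_mul_cancel, one_mul]

/-- `W r W s` -/
def Ps (h : PreY t B Φ X W Y) {r s : L} (T : Tri B Φ r s) : Subgroup G where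
  carrier := {f | ∃ a ∈ W r, ∃ b ∈ W s, f = a * b}
  one_mem' := ⟨1, one_mem _, 1, one_mem _, (mul_one 1).symm⟩
  mul_mem' := by
    rintro _ _ ⟨a, ha, b, hb, rfl⟩ ⟨a', ha', b', hb', rfl⟩
    obtain ⟨x, hx, y, hy, hc⟩ := comm_mem h T.hs T.hr T.sr hb ha'
    refine ⟨a * y * a', mul_mem (mul_mem ha (h.XW r T.hr hy)) ha', x * b * b',
      mul_mem (mul_mem (h.XW s T.hs hx) hb) hb', ?_⟩
    have c1 : x * y = y * x := (XX h T.hr T.hs (by rw [T.rs]; norm_num) hy hx).symm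
    have c2 : a' * x = x * a' := h.WX r T.hr s T.hs (by rw [T.sr]; norm_num) a' ha' x hx
    calc a * b * (a' * b') = a * (b * a' * b⁻¹ * a'⁻¹) * a' * b * b' := by group
      _ = a * (y * x) * a' * b * b' := by rw [hc, c1]
      _ = a * y * (x * a') * b * b' := by group
      _ = a * y * a' * (x * b * b') := by rw [← c2]; group
  inv_mem' := by
    rintro _ ⟨a, ha, b, hb, rfl⟩
    obtain ⟨x, hx, y, hy, hc⟩ := comm_mem h T.hs T.hr T.sr (inv_mem hb) (inv_mem ha)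
    refine ⟨y * a⁻¹, mul_mem (h.XW r T.hr hy) (inv_mem ha), x * b⁻¹, mul_mem (h.XW s T.hs hx) (inv_mem hb), ?_⟩
    have c1 : x * y = y * x := (XX h T.hr T.hs (by rw [T.rs]; norm_num) hy hx).symm
    have c2 : a⁻¹ * x = x * a⁻¹ := h.WX r T.hr s T.hs (by rw [T.sr]; norm_num) _ (inv_mem ha) x hx
    calc (a * b)⁻¹ = (b⁻¹ * a⁻¹ * b⁻¹⁻¹ * a⁻¹⁻¹) * a⁻¹ * b⁻¹ := by group
      _ = (y * x) * a⁻¹ * b⁻¹ := by rw [hc, c1]
      _ = y * (x * a⁻¹) * b⁻¹ := by group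
      _ = y * a⁻¹ * (x * b⁻¹) := by rw [← c2]; group

theorem Ps_r (h : PreY t B Φ X W Y) {r s : L} (T : Tri B Φ r s) {w : G} (hw : w ∈ W r) : w ∈ Ps h T :=
  ⟨w, hw, 1, one_mem _, (mul_one w).symm⟩

theorem Ps_s (h : PreY t B Φ X W Y) {r s : L} (T : Tri B Φ r s) {w : G} (hw : w ∈ W s) : w ∈ Ps h T :=
  ⟨1, one_mem _, w, hw, (one_mul w).symm⟩

/-- `t ∉ W r W s` -/
theorem t_not_Ps (h : PreY t B Φ X W Y) {r s : L} (T : Tri B Φ r s) : t ∉ Ps h T := by
  rintro ⟨a, ha, b, hb, he⟩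
  have h1 : bt t t = 1 := bt_of_comm h.tt rfl
  have hab : bt t (a * b) = bt t a * bt t b :=
    bt_mul h.tt (h.WX s T.hs r T.hr (by rw [T.rs]; norm_num) b hb _ (bt_mem h T.hr ha)).symm
  rw [← he, h1] at hab
  have h2 : bt t a = (bt t b)⁻¹ := eq_inv_of_mul_eq_one_left hab.symm
  have h3 : bt t a ∈ X s := by rw [h2]; exact inv_mem (bt_mem h T.hs hb)
  have h4 : bt t a = 1 := disj h T (bt_mem h T.hr ha) h3
  have h5 : bt t b = 1 := by rw [h4, one_mul] at hab; exact hab.symm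
  exact sup_nt h T.hr T.hs (mem_X_of_bt h T.hr ha h4) (mem_X_of_bt h T.hs hb h5) he.symm

theorem dich (h : PreY t B Φ X W Y) {r s : L} (T : Tri B Φ r s) (hE : ¬ Eps t X W r s) : t ∉ Fs X W r s := by
  intro ht
  apply t_not_Ps h T
  have : Fs X W r s ≤ Ps h T := by
    rw [Fs, Subgroup.closure_le]
    rintro f (hf | ⟨g, hg, u, hu, rfl⟩)
    · exact Ps_r h T hf
    · by_cases hg1 : g = 1
      · rw [hg1, one_mul, inv_one, mul_one]; exact Ps_s h T hu
      by_cases hbu : bt t u = 1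
      · have huX := mem_X_of_bt h T.hs hu hbu
        have e : g * u * g⁻¹ = (g * u * g⁻¹ * u⁻¹) * u := by group
        rw [e]
        exact mul_mem (Ps_r h T (h.XW r T.hr (conj_X h T hg huX))) (Ps_s h T hu)
      have hx' := conj_X h T hg (bt_mem h T.hs hu)
      obtain ⟨v, hv, hbv⟩ := h.surj r T.hr _ hx'
      have hbv' : bt t v = g * bt t u * g⁻¹ * (bt t u)⁻¹ := hbv
      have hk := k_comm h T hg hu hv hbv'
      have hkF : v⁻¹ * u⁻¹ * (g * u * g⁻¹) ∈ Fs X W r s :=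
        mul_mem (mul_mem (inv_mem (Wr_le X W r s hv)) (inv_mem (Ws_le X W r s hu))) (conj_mem_Fs hg hu)
      have e : g * u * g⁻¹ = u * v * (v⁻¹ * u⁻¹ * (g * u * g⁻¹)) := by group
      rcases ker_form h T hkF hk with ⟨x, hx, y, hy, h1⟩ | ⟨_, ⟨x, hx, y, hy, rfl⟩, h1⟩
      · rw [e, h1]
        exact mul_mem (mul_mem (Ps_s h T hu) (Ps_r h T hv))
          (mul_mem (Ps_r h T (h.XW r T.hr hx)) (Ps_s h T (h.XW s T.hs hy)))
      · exfalso
        apply hE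
        refine ⟨g, hg, v, hv, u, hu, hg1, ?_, hbu, x, hx, y, hy, ?_⟩
        · rw [hbv']; exact conj_ne h T hg hg1 (bt_mem h T.hs hu) hbu
        · rw [e, h1]; group
  exact this ht

/-! ### Symmetry and transport -/

theorem Eps.symm (h : PreY t B Φ X W Y) (hb : Two B Φ X W) {r s : L} (T : Tri B Φ r s) (hE : Eps t X W r s) :
    Eps t X W s r := by
  obtain ⟨g, hg, v, hv, u, hu, hg1, hbv, hbu, -⟩ := id hE
  obtain ⟨q, hq, hq1⟩ := exists_ne h T.hd'
  obtain ⟨w, hw⟩ : ∃ w, w = (q⁻¹ * g) * u * (q⁻¹ * g)⁻¹ := ⟨_, rfl⟩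
  have hwW : w ∈ W r := by rw [hw]; exact (nW h hb T hg hg1 hq hq1 u).1 hu
  have hbw : bt t w ≠ 1 := by
    rw [hw, bt_conj (n_comm_t h T hg hq)]
    intro h1
    apply hbu
    have : bt t u = (q⁻¹ * g)⁻¹ * ((q⁻¹ * g) * bt t u * (q⁻¹ * g)⁻¹) * (q⁻¹ * g) := by group
    rw [this, h1]; group
  obtain ⟨x, hx, y, hy, he⟩ := hE.all h hb T g hg w hwW u hu hg1 hbw hbu
  obtain ⟨y1, hy1, x1, hx1, hc⟩ := comm_mem h T.hs T.hr T.sr (inv_mem hu) (inv_mem hwW)
  refine ⟨q, hq, u, hu, w, hwW, hq1, hbu, hbw, y1 * y, mul_mem hy1 hy, x1 * x, mul_mem hx1 hx, ?_⟩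
  have cxy : ∀ x ∈ X r, ∀ y ∈ X s, Commute x y := fun x hx y hy =>
    XX h T.hr T.hs (by rw [T.rs]; norm_num) hx hy
  have c1 : (y1 * x1) * t = t * (y1 * x1) := by
    have c2 : Commute t y1 := h.tX s T.hs y1 hy1
    have c3 : Commute t x1 := h.tX r T.hr x1 hx1
    exact (c2.mul_right c3).symm.eq
  have c4 : x * y = y * x := (cxy x hx y hy).eq
  have c5 : x1 * y = y * x1 := (cxy x1 hx1 y hy).eq
  calc q * w * q⁻¹ = g * u * g⁻¹ := by rw [hw]; group
    _ = u * w * t * (x * y) := he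
    _ = w * u * (u⁻¹ * w⁻¹ * u⁻¹⁻¹ * w⁻¹⁻¹) * t * (x * y) := by group
    _ = w * u * ((y1 * x1) * t) * (x * y) := by rw [hc]; group
    _ = w * u * t * (y1 * (x1 * y) * x) := by rw [c1, c4]; group
    _ = w * u * t * (y1 * y * (x1 * x)) := by rw [c5]; group

/-- `Eps s m → Eps r m` for a triple at `60°` -/
theorem Eps.trans (h : PreY t B Φ X W Y) (hb : Two B Φ X W) {r s m : L} (T : Tri B Φ r s) (Trm : Tri B Φ r m)
    (Tsm : Tri B Φ s m) (hE : Eps t X W s m) : Eps t X W r m := by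
  have hrm := Trm.rs
  have hsm := Tsm.rs
  have hd := T.hd
  have e0 : r - m - (s - m) = r - s := by abel
  have e1 : s - m - (r - m) = s - r := by abel
  have T' : Tri B Φ (r - m) (s - m) := by
    apply Tri.of h Trm.hd Tsm.hd
    rw [h.roots.sub_left, h.roots.sub_right, h.roots.sub_right, T.rs, hrm, h.roots.two m Trm.hs,
      Tsm.sr]
    norm_num
  obtain ⟨g, hg, hg1⟩ := exists_ne h T.hd
  obtain ⟨q, hq, hq1⟩ := exists_ne h T.hd'
  obtain ⟨g', hg', v', hv', u', hu', hg1', hbv', hbu', x', hx', y', hy', he⟩ := hE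
  obtain ⟨n, hn⟩ : ∃ n, n = q⁻¹ * g := ⟨_, rfl⟩
  have hnt : n * t = t * n := by rw [hn]; exact n_comm_t h T hg hq
  have hB1 : B (r - s) m = 0 := by rw [h.roots.sub_left, hrm, hsm]; norm_num
  have hB2 : B (s - r) m = 0 := by rw [h.roots.sub_left, hrm, hsm]; norm_num
  have cm : ∀ w ∈ W m, n * w * n⁻¹ = w := by
    intro w hw
    apply comm_conj
    have c1 : Commute w g := h.WX m Trm.hs _ T.hd (by rw [hB1]) w hw g hg
    have c2 : Commute w q := h.WX m Trm.hs _ T.hd' (by rw [hB2]) w hw q hq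
    rw [hn]
    exact (c2.inv_right.mul_right c1).symm.eq
  have hinj : ∀ z : G, n * z * n⁻¹ = 1 → z = 1 := by
    intro z hz
    have : z = n⁻¹ * (n * z * n⁻¹) * n := by group
    rw [this, hz]; group
  have hgg : n * g' * n⁻¹ ∈ X (r - m) := by
    rw [hn]
    exact nX h hb T' (by rw [e0]; exact hg) hg1 (by rw [e1]; exact hq) hq1 hg'
  refine ⟨n * g' * n⁻¹, hgg, n * v' * n⁻¹, ?_, u', hu', fun h1 => hg1' (hinj _ h1), ?_, hbu',
    n * x' * n⁻¹, ?_, y', hy', ?_⟩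
  · rw [hn]; exact (nW h hb T hg hg1 hq hq1 v').1 hv'
  · rw [bt_conj hnt]; exact fun h1 => hbv' (hinj _ h1)
  · rw [hn]; exact nX h hb T hg hg1 hq hq1 hx'
  · have h1 : n * u' * n⁻¹ = u' := cm u' hu'
    have h2 : n * y' * n⁻¹ = y' := cm y' (h.XW m Trm.hs hy')
    have h3 : n * t * n⁻¹ = t := comm_conj hnt
    calc n * g' * n⁻¹ * u' * (n * g' * n⁻¹)⁻¹ = n * g' * n⁻¹ * (n * u' * n⁻¹) * (n * g' * n⁻¹)⁻¹ := by rw [h1]
      _ = n * (g' * u' * g'⁻¹) * n⁻¹ := by group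
      _ = n * (u' * v' * t * (x' * y')) * n⁻¹ := by rw [he]
      _ = (n * u' * n⁻¹) * (n * v' * n⁻¹) * (n * t * n⁻¹) * ((n * x' * n⁻¹) * (n * y' * n⁻¹)) := by group
      _ = _ := by rw [h1, h2, h3]

/-! ### The elements `a_r = y_r t` -/

theorem a_sq (h : PreY t B Φ X W Y) (hb : Two B Φ X W) {r : L} (hr : r ∈ Φ) {v : G} (hv : v ∈ W r) :
    (v * t) * (v * t) = bt t v := by
  have h1 := hb.sq r hr v hv
  calc (v * t) * (v * t) = v * (t * v * t) := by group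
    _ = (v * v) * bt t v := by rw [tw]; group
    _ = bt t v := by rw [h1, one_mul]

theorem a_t (h : PreY t B Φ X W Y) (hb : Two B Φ X W) {r : L} (hr : r ∈ Φ) {v : G} (hv : v ∈ W r) :
    t * (v * t) * t = (v * t)⁻¹ := by
  have h1 := hb.sq r hr v hv
  have h2 : v⁻¹ = v := inv_eq_of_mul_eq_one_left h1
  rw [mul_inv_rev, ti h, h2]
  calc t * (v * t) * t = t * v * (t * t) := by group
    _ = t * v := by rw [h.tt, mul_one]

/-- the relations between `a_r` and `a_s` -/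
theorem Eps.rel (h : PreY t B Φ X W Y) (hb : Two B Φ X W) {r s : L} (T : Tri B Φ r s) (hE : Eps t X W r s)
    {g v u : G} (hg : g ∈ X (r - s)) (hv : v ∈ W r) (hu : u ∈ W s) (hg1 : g ≠ 1) (hbv : bt t v ≠ 1)
    (hbu : bt t u ≠ 1) :
    Commute (v * t) (u * t) ∧ Commute g (v * t) ∧
      ∃ α, (α = v * t ∨ α = (v * t)⁻¹) ∧ g * (u * t) * g⁻¹ = (u * t)⁻¹ * α := by
  obtain ⟨x, hx, y, hy, he⟩ := hE.all h hb T g hg v hv u hu hg1 hbv hbu
  obtain ⟨a, ha⟩ : ∃ a, a = v * t := ⟨_, rfl⟩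
  obtain ⟨b, hbb⟩ : ∃ b, b = u * t := ⟨_, rfl⟩
  have haa : a * a = bt t v := by rw [ha]; exact a_sq h hb T.hr hv
  have hbb2 : b * b = bt t u := by rw [hbb]; exact a_sq h hb T.hs hu
  have hta : t * a * t = a⁻¹ := by rw [ha]; exact a_t h hb T.hr hv
  have htb : t * b * t = b⁻¹ := by rw [hbb]; exact a_t h hb T.hs hu
  have cgt : Commute g t := (h.tX _ T.hd g hg).symm
  have cgv : Commute g v := (h.WX r T.hr _ T.hd (by rw [T.dr]; norm_num) v hv g hg).symm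
  have cga : Commute g a := by rw [ha]; exact cgv.mul_right cgt
  have ctx : Commute t x := h.tX r T.hr x hx
  have cty : Commute t y := h.tX s T.hs y hy
  have cxv : Commute x v := (h.WX r T.hr r T.hr (rr h T.hr) v hv x hx).symm
  have cyv : Commute y v := (h.WX r T.hr s T.hs (by rw [T.sr]; norm_num) v hv y hy).symm
  have cxu : Commute x u := (h.WX s T.hs r T.hr (by rw [T.rs]; norm_num) u hu x hx).symm
  have cyu : Commute y u := (h.WX s T.hs s T.hs (rr h T.hs) u hu y hy).symm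
  have cxy : Commute x y := XX h T.hr T.hs (by rw [T.rs]; norm_num) hx hy
  have cxa : Commute x a := by rw [ha]; exact cxv.mul_right ctx.symm
  have cya : Commute y a := by rw [ha]; exact cyv.mul_right cty.symm
  have cxb : Commute x b := by rw [hbb]; exact cxu.mul_right ctx.symm
  have cyb : Commute y b := by rw [hbb]; exact cyu.mul_right cty.symm
  have cgx : Commute g x := XX h T.hd T.hr (by rw [T.dr]; norm_num) hg hx
  have hxx : x * x = 1 := h.Xsq r T.hr x hx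
  have hyy : y * y = 1 := h.Xsq s T.hs y hy
  -- `g b g⁻¹ = b a⁻¹ x y`
  have hvi : v⁻¹ = v := inv_eq_of_mul_eq_one_left (hb.sq r T.hr v hv)
  have E1 : g * b * g⁻¹ = b * a⁻¹ * (x * y) := by
    have cxyt : (x * y) * t = t * (x * y) := (ctx.mul_right cty).symm.eq
    have h1 : a⁻¹ = t * v := by rw [ha, mul_inv_rev, hvi, ti h]
    calc g * b * g⁻¹ = (g * u * g⁻¹) * (g * t * g⁻¹) := by rw [hbb]; group
      _ = u * v * t * ((x * y) * t) := by rw [he, comm_conj cgt.eq]; group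
      _ = u * v * (t * t) * (x * y) := by rw [cxyt]; group
      _ = u * v * (x * y) := by rw [h.tt, mul_one]
      _ = u * (t * t) * v * (x * y) := by rw [h.tt, mul_one]
      _ = b * a⁻¹ * (x * y) := by rw [hbb, h1]; group
  have cab : Commute a b := by
    -- apply `t`
    have h1 : t * (g * b * g⁻¹) * t = (g * b * g⁻¹)⁻¹ := by
      calc t * (g * b * g⁻¹) * t = (t * g) * b * (g⁻¹ * t) := by group
        _ = (g * t) * b * (t * g⁻¹) := by rw [cgt.eq, cgt.inv_left.eq]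
        _ = g * (t * b * t) * g⁻¹ := by group
        _ = (g * b * g⁻¹)⁻¹ := by rw [htb]; group
    rw [E1] at h1
    have h2 : t * (b * a⁻¹ * (x * y)) * t = b⁻¹ * a * (x * y) := by
      have hta' : t * a⁻¹ * t = a := by
        have : t * a⁻¹ * t = (t * a * t)⁻¹ := by
          rw [mul_inv_rev, mul_inv_rev, ti h]; group
        rw [this, hta, inv_inv]
      have cxyt : t * (x * y) * t = x * y := by
        rw [(ctx.mul_right cty).eq, mul_assoc, h.tt, mul_one]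
      calc t * (b * a⁻¹ * (x * y)) * t = t * b * (t * t) * a⁻¹ * (t * t) * (x * y) * t := by
            rw [h.tt]; group
        _ = (t * b * t) * (t * a⁻¹ * t) * (t * (x * y) * t) := by group
        _ = b⁻¹ * a * (x * y) := by rw [htb, hta', cxyt]
    have h3 : (b * a⁻¹ * (x * y))⁻¹ = a * b⁻¹ * (x * y) := by
      have cc : Commute (x * y) (a * b⁻¹) :=
        (cxa.mul_right cxb.inv_right).mul_left (cya.mul_right cyb.inv_right)
      have hi : (x * y)⁻¹ = x * y := by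
        apply inv_eq_of_mul_eq_one_left
        calc x * y * (x * y) = x * (y * x) * y := by group
          _ = (x * x) * (y * y) := by rw [← cxy.eq]; group
          _ = 1 := by rw [hxx, hyy, one_mul]
      calc (b * a⁻¹ * (x * y))⁻¹ = (x * y)⁻¹ * (a * b⁻¹) := by group
        _ = (x * y) * (a * b⁻¹) := by rw [hi]
        _ = a * b⁻¹ * (x * y) := cc.eq
    rw [h2, h3] at h1
    have h4 : b⁻¹ * a = a * b⁻¹ := mul_right_cancel h1
    have h5 : Commute b⁻¹ a := h4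
    have h6 := h5.inv_left
    rw [inv_inv] at h6
    exact h6.symm
  refine ⟨by rw [← ha, ← hbb]; exact cab, by rw [← ha]; exact cga, ?_⟩
  rw [← ha, ← hbb]
  -- `y ≠ 1`
  have hgg : g * g = 1 := h.Xsq _ T.hd g hg
  have h1 : g * (g * b * g⁻¹) * g⁻¹ = b := by
    calc g * (g * b * g⁻¹) * g⁻¹ = (g * g) * b * (g * g)⁻¹ := by group
      _ = b := by rw [hgg]; group
  have h2 : g * (g * b * g⁻¹) * g⁻¹ = (g * b * g⁻¹) * a⁻¹ * x * (g * y * g⁻¹) := by
    calc g * (g * b * g⁻¹) * g⁻¹ = g * (b * a⁻¹ * (x * y)) * g⁻¹ := by rw [E1]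
      _ = (g * b * g⁻¹) * (g * a⁻¹ * g⁻¹) * (g * x * g⁻¹) * (g * y * g⁻¹) := by group
      _ = _ := by rw [comm_conj cga.inv_right.eq, comm_conj cgx.eq]
  have hy1 : y ≠ 1 := by
    rintro rfl
    rw [h1, E1] at h2
    apply hbv
    rw [← haa]
    have h3 : b * (a⁻¹ * a⁻¹) = b := by
      have c1 : x * a⁻¹ = a⁻¹ * x := cxa.inv_right.eq
      calc b * (a⁻¹ * a⁻¹) = b * a⁻¹ * a⁻¹ * (x * x) := by rw [hxx]; group
        _ = b * a⁻¹ * (a⁻¹ * x) * x := by group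
        _ = b * a⁻¹ * (x * 1) * a⁻¹ * x * (g * 1 * g⁻¹) := by rw [← c1]; group
        _ = b := h2.symm
    have h4 : a⁻¹ * a⁻¹ = 1 := mul_eq_left.1 h3
    have h5 : a * a = (a⁻¹ * a⁻¹)⁻¹ := by rw [mul_inv_rev, inv_inv]
    rw [h5, h4, inv_one]
  have hy2 : y = b * b := by
    rw [hbb2]; exact hb.card s T.hs y hy _ (bt_mem h T.hs hu) hy1 hbu
  have hb4 : (b * b) * (b * b) = 1 := by rw [hbb2]; exact h.Xsq s T.hs _ (bt_mem h T.hs hu)
  have ha4 : (a * a) * (a * a) = 1 := by rw [haa]; exact h.Xsq r T.hr _ (bt_mem h T.hr hv)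
  have hb3 : b * (b * b) = b⁻¹ := by
    apply eq_inv_of_mul_eq_one_left
    calc b * (b * b) * b = (b * b) * (b * b) := by group
      _ = 1 := hb4
  refine ⟨a⁻¹ * x, ?_, ?_⟩
  · by_cases hx1 : x = 1
    · right; rw [hx1, mul_one]
    · left
      have : x = a * a := by
        rw [haa]; exact hb.card r T.hr x hx _ (bt_mem h T.hr hv) hx1 hbv
      rw [this]; group
  · rw [E1]
    have c1 : Commute (a⁻¹ * x) y := cya.symm.inv_left.mul_left cxy
    calc b * a⁻¹ * (x * y) = b * ((a⁻¹ * x) * y) := by group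
      _ = b * (y * (a⁻¹ * x)) := by rw [c1.eq]
      _ = (b * y) * (a⁻¹ * x) := by group
      _ = b⁻¹ * (a⁻¹ * x) := by rw [hy2, hb3]

theorem not_eps (h : PreY t B Φ X W Y) (hb : Two B Φ X W) {r s : L} (T : Tri B Φ r s) : ¬ Eps t X W r s := by
  intro hE
  obtain ⟨m, hm, hmr, hms⟩ := hb.three r T.hr s T.hs T.rs
  have hrm : B r m = 1 := by rw [h.roots.symm]; exact hmr
  have Trm : Tri B Φ r m := Tri.of h T.hr hm hrm
  have Tms : Tri B Φ m s := Tri.of h hm T.hs hms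
  -- all three
  have E2 : Eps t X W m s := hE.trans h hb Trm.symm Tms T
  have E3 : Eps t X W r m := (E2.symm h hb Tms).trans h hb T Trm Tms.symm
  -- the elements
  obtain ⟨g1, hg1, hg11⟩ := exists_ne h T.hd
  obtain ⟨g2, hg2, hg21⟩ := exists_ne h Tms.hd
  obtain ⟨g3, hg3, hg31⟩ := exists_ne h Trm.hd
  have ey : ∀ a ∈ Φ, ∃ y ∈ W a, bt t y ≠ 1 := by
    intro a ha
    obtain ⟨x, hx, hx1⟩ := exists_ne h ha
    obtain ⟨y, hy, he⟩ := h.surj a ha x hx
    have he' : bt t y = x := he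
    exact ⟨y, hy, by rw [he']; exact hx1⟩
  obtain ⟨yr, hyr, hbr⟩ := ey r T.hr
  obtain ⟨ys, hys, hbs⟩ := ey s T.hs
  obtain ⟨ym, hym, hbm⟩ := ey m hm
  obtain ⟨c1, c2, α, hα, e1⟩ := hE.rel h hb T hg1 hyr hys hg11 hbr hbs
  obtain ⟨c3, c4, β, hβ, e2⟩ := E2.rel h hb Tms hg2 hym hys hg21 hbm hbs
  obtain ⟨c5, -, -⟩ := E3.rel h hb Trm hg3 hyr hym hg31 hbr hbm
  obtain ⟨a, ha⟩ : ∃ a, a = yr * t := ⟨_, rfl⟩
  obtain ⟨b, hbb⟩ : ∃ b, b = ys * t := ⟨_, rfl⟩
  obtain ⟨c, hc⟩ : ∃ c, c = ym * t := ⟨_, rfl⟩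
  rw [← ha, ← hbb] at c1
  rw [← hbb] at e1
  rw [← ha] at c2 hα
  rw [← hc, ← hbb] at c3
  rw [← hbb] at e2
  rw [← hc] at c4 hβ
  rw [← ha, ← hc] at c5
  -- `α² = a²`, `β² = c²`
  have hαα : α * α = bt t yr := by
    have h1 : a * a = bt t yr := by rw [ha]; exact a_sq h hb T.hr hyr
    rcases hα with rfl | rfl
    · exact h1
    · have h2 : a⁻¹ * a⁻¹ = (a * a)⁻¹ := by group
      rw [h2, h1]; exact Xi h T.hr (bt_mem h T.hr hyr)
  have hββ : β * β = bt t ym := by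
    have h1 : c * c = bt t ym := by rw [hc]; exact a_sq h hb hm hym
    rcases hβ with rfl | rfl
    · exact h1
    · have h2 : c⁻¹ * c⁻¹ = (c * c)⁻¹ := by group
      rw [h2, h1]; exact Xi h hm (bt_mem h hm hym)
  -- commutation
  have cαb : Commute α b := by
    rcases hα with rfl | rfl
    · exact c1
    · exact c1.inv_left
  have cβb : Commute β b := by
    rcases hβ with rfl | rfl
    · exact c3
    · exact c3.inv_left
  have cαβ : Commute α β := by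
    rcases hα with rfl | rfl <;> rcases hβ with rfl | rfl
    · exact c5
    · exact c5.inv_right
    · exact c5.inv_left
    · exact c5.inv_inv
  have cg1c : Commute g1 c := by
    have h0 : B (r - s) m = 0 := by rw [h.roots.sub_left, hrm, Tms.sr]; norm_num
    have h1 : Commute ym g1 := h.WX m hm _ T.hd (by rw [h0]) ym hym g1 hg1
    have h2 : Commute t g1 := h.tX _ T.hd g1 hg1
    rw [hc]; exact h1.symm.mul_right h2.symm
  have cg2a : Commute g2 a := by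
    have h0 : B (m - s) r = 0 := by rw [h.roots.sub_left, hmr, T.sr]; norm_num
    have h1 : Commute yr g2 := h.WX r T.hr _ Tms.hd (by rw [h0]) yr hyr g2 hg2
    have h2 : Commute t g2 := h.tX _ Tms.hd g2 hg2
    rw [ha]; exact h1.symm.mul_right h2.symm
  have cg1β : Commute g1 β := by
    rcases hβ with rfl | rfl
    · exact cg1c
    · exact cg1c.inv_right
  have cg2α : Commute g2 α := by
    rcases hα with rfl | rfl
    · exact cg2a
    · exact cg2a.inv_right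
  have cg12 : Commute g1 g2 := by
    have h0 : B (r - s) (m - s) = 1 := by
      rw [h.roots.sub_left, h.roots.sub_right, h.roots.sub_right, hrm, T.rs, Tms.sr, h.roots.two s T.hs]
      norm_num
    exact XX h T.hd Tms.hd (by rw [h0]; norm_num) hg1 hg2
  -- the two computations
  have f1 : g1 * (g2 * b * g2⁻¹) * g1⁻¹ = b * α⁻¹ * β := by
    calc g1 * (g2 * b * g2⁻¹) * g1⁻¹ = g1 * (b⁻¹ * β) * g1⁻¹ := by rw [e2]
      _ = (g1 * b * g1⁻¹)⁻¹ * (g1 * β * g1⁻¹) := by group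
      _ = (b⁻¹ * α)⁻¹ * β := by rw [e1, comm_conj cg1β.eq]
      _ = (α⁻¹ * b) * β := by group
      _ = b * α⁻¹ * β := by rw [cαb.inv_left.eq]
  have f2 : g2 * (g1 * b * g1⁻¹) * g2⁻¹ = b * β⁻¹ * α := by
    calc g2 * (g1 * b * g1⁻¹) * g2⁻¹ = g2 * (b⁻¹ * α) * g2⁻¹ := by rw [e1]
      _ = (g2 * b * g2⁻¹)⁻¹ * (g2 * α * g2⁻¹) := by group
      _ = (b⁻¹ * β)⁻¹ * α := by rw [e2, comm_conj cg2α.eq]
      _ = (β⁻¹ * b) * α := by group
      _ = b * β⁻¹ * α := by rw [cβb.inv_left.eq]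
  have f3 : g1 * (g2 * b * g2⁻¹) * g1⁻¹ = g2 * (g1 * b * g1⁻¹) * g2⁻¹ := by
    calc g1 * (g2 * b * g2⁻¹) * g1⁻¹ = (g1 * g2) * b * (g1 * g2)⁻¹ := by group
      _ = (g2 * g1) * b * (g2 * g1)⁻¹ := by rw [cg12.eq]
      _ = _ := by group
  rw [f1, f2] at f3
  have f4 : α⁻¹ * β = β⁻¹ * α := by
    have : b * (α⁻¹ * β) = b * (β⁻¹ * α) := by rw [← mul_assoc, f3]; group
    exact mul_left_cancel this
  have f5 : β * β = α * α := by
    calc β * β = β * (α * (α⁻¹ * β)) := by group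
      _ = β * (α * (β⁻¹ * α)) := by rw [f4]
      _ = (β * α) * (β⁻¹ * α) := by group
      _ = (α * β) * (β⁻¹ * α) := by rw [cαβ.eq]
      _ = α * α := by group
  rw [hαα, hββ] at f5
  have f6 : bt t yr ∈ X m := by rw [← f5]; exact bt_mem h hm hym
  exact hbr (disj h Trm (bt_mem h T.hr hyr) f6)

/-! ### The end -/

theorem _root_.Cfsg.Agent.OddHalf.SL.Rest.Ax.of_two (h : PreY t B Φ X W Y) (hb : Two B Φ X W) :
    Ax t B Φ X W Y := by
  have hN : ∀ {r s : L}, Tri B Φ r s → t ∉ Fs X W r s := fun T => dich h T (not_eps h hb T)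
  refine ⟨h, ?_, ?_, hb.sq⟩
  · intro r hr s hs hrs v hv w hw
    have T := Tri.of h hr hs hrs
    exact comm_one h T (hN T) (hN T.symm) hv hw
  · intro a ha s hs has g hg u hu
    have hm := h.roots.add a ha s hs has
    have T := Tri.of h hm hs (by rw [h.roots.add_left, has, h.roots.two s hs]; norm_num)
    have e : a + s - s = a := by abel
    have hg' : g ∈ X (a + s - s) := by rw [e]; exact hg
    obtain ⟨w, hw, y, hy, h1, -⟩ := conj_form h T (hN T) hg' hu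
    by_cases hg1 : g = 1
    · exact ⟨1, one_mem _, by rw [hg1]; group⟩
    have hgg : g * g = 1 := h.Xsq _ ha g hg
    have cwg : Commute w g := h.WX _ hm a ha (by rw [h.roots.add_right, h.roots.two a ha, has]; norm_num) w hw g hg
    have cwy : Commute w y := h.WX _ hm s hs (by rw [T.sr]; norm_num) w hw y hy
    have hww := hb.sq _ hm w hw
    have h2 : u * (y * (g * y * g⁻¹)) = u := by
      calc u * (y * (g * y * g⁻¹)) = u * (w * w) * y * (g * y * g⁻¹) := by rw [hww]; group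
        _ = u * w * (w * y) * (g * y * g⁻¹) := by group
        _ = (u * w * y) * w * (g * y * g⁻¹) := by rw [cwy.eq]; group
        _ = (g * u * g⁻¹) * (g * w * g⁻¹) * (g * y * g⁻¹) := by rw [h1, comm_conj cwg.symm.eq]
        _ = g * (u * w * y) * g⁻¹ := by group
        _ = (g * g) * u * (g * g)⁻¹ := by rw [← h1]; group
        _ = u := by rw [hgg]; group
    have h3 : y * (g * y * g⁻¹) = 1 := mul_eq_left.1 h2
    have h4 : g * y = y * g := by
      have h5 : g * y * g⁻¹ = y⁻¹ := eq_inv_of_mul_eq_one_right h3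
      rw [Xi h hs hy] at h5
      calc g * y = (g * y * g⁻¹) * g := by group
        _ = y * g := by rw [h5]
    rcases h.Xnd a ha s hs has g hg y hy h4 with h5 | h5
    · exact absurd h5 hg1
    · exact ⟨w, hw, by rw [h1, h5, mul_one]⟩

/-- **THEOREM SL for `q = 2`.** -/
theorem dbl_of_two_Y (h : PreY t B Φ X W Y) (hb : Two B Φ X W) : Dbl t B Φ X W := dbl (Ax.of_two h hb)

theorem dbl_of_two (h : Pre t B Φ X W) (hb : Two B Φ X W) : Dbl t B Φ X W := dbl_of_two_Y (of_pre h) hb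

end Cfsg.Agent.OddHalf.SL.TwoMain

end

-- merged: Cfsg.Agent.OddHalf.SL.OfAut
section

/-!
# The growth in the whole of `C(t)` (outer automorphisms included)

`D₀ : Datum ⊤ q cs h T₀ n X` is a simply laced datum of the group `↥K`, `Full t K` : `K ⊴ C(t)`, `C(t) ∩ C(K) = ⟨t⟩`,
`t ∉ K`.

* `aut1`, `aut2` : automorphisms trivial on `⟨X a : (a, r) > 0⟩`, resp. on `⟨X a : (a, r + s) > 0⟩`, `(r, s) = 1`;
* `K1'`, `K2'` : the centralizer hypotheses of `Defs.Pre` for the whole of `C(t)`; `pre`;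
* `dbl_of_base` : `Base0 → YData, Dbl` for `q > 2`; `dbl_of_base_two` for `q = 2`.
-/

set_option autoImplicit false
set_option linter.unusedSectionVars false

namespace Cfsg.Agent.OddHalf.SL.OfAut

open CoxeterSystem Cfsg.Agent.ChevalleyStructure.CoxeterGeom Cfsg.Agent.Tits.Roots Cfsg.Agent.Tits.Core
  Cfsg.Agent.Tits.RootComb Cfsg.Agent.Nodes.Comb Cfsg.Agent.Nodes.Reps Cfsg.Agent.Nodes.BNOf
  Cfsg.Agent.Nodes.Bruhat Cfsg.Agent.Nodes.Coroot Cfsg.Agent.OddHalf.SL.Index Cfsg.Agent.OddHalf.SL.OfRGD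
  Cfsg.Agent.OddHalf.SL.PreOf Cfsg.Agent.KFacts.RgdSL Cfsg.Agent.KFacts.RgdTI Cfsg.Agent.KFacts.RgdCent
  Cfsg.Agent.KFacts.RgdOdd Cfsg.Agent.KFacts.SLRow.Def Cfsg.Agent.OddHalf.SL.Base0
open scoped commutatorElement

/-! ### Combinatorics -/

section Comb

variable {I W : Type*} [Fintype I] [DecidableEq I] [Group W] {M : CoxeterMatrix I}
  {cs : CoxeterSystem M W} {A : I → I → ℤ} {h : IsCartan M A} [Finite W] (h4 : ∀ i j, M i j ≠ 4)
  (h6 : ∀ i j, M i j ≠ 6)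

/-- The functional `a ↦ (a, r)`. -/
def fn (r : I → ℤ) (h4 : ∀ i j, M i j ≠ 4) (h6 : ∀ i j, M i j ≠ 6) (cs : CoxeterSystem M W) (h : IsCartan M A) :
    (I → ℤ) →+ ℤ :=
  AddMonoidHom.mk' (fun a => Bf A a r) fun a b => (roots cs h h4 h6).add_left a b r

theorem fn_apply (r a : I → ℤ) : fn r h4 h6 cs h a = Bf A a r := rfl

variable (hirr : Conn M)

include h4 h6 hirr

/-- a root `b ⊥ r, s` has a neighbour `a` with `(a, r) = 1`, `(a, s) ≥ 0`, `(a, b) = -1` -/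
theorem nb {r s b : I → ℤ} (hr : IsRoot cs h r) (hs : IsRoot cs h s) (hb : IsRoot cs h b) (hrs : Bf A r s = 1)
    (h1 : Bf A b r = 0) (h2 : Bf A b s = 0) : ∃ a, IsRoot cs h a ∧ Bf A a r = 1 ∧ 0 ≤ Bf A a s ∧ Bf A a b = -1 := by
  have hR := roots cs h h4 h6
  obtain ⟨a, ha, har, hab⟩ := orth h4 h6 hirr r hr b hb (by rw [hR.symm]; exact h1)
  refine ⟨a, ha, har, ?_, hab⟩
  by_contra hneg
  have g1 := hR.ge ha hs
  rcases (show Bf A a s = -1 ∨ Bf A a s = -2 by omega) with e | e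
  · have h3 := hR.eq a ha (r - s) (hR.sub_mem hr hs hrs) (by rw [hR.sub_right, har, e]; norm_num)
    rw [h3, hR.sub_left, hR.symm r b, hR.symm s b, h1, h2] at hab
    omega
  · have h3 := hR.eq_neg ha hs e
    rw [h3, hR.neg_left, hR.symm s b, h2] at hab
    omega

/-- `Ψ* = {r, s}` for `Ψ = {a | (a, r + s) > 0}`, `(r, s) = 1`. -/
theorem star_two {r s b : I → ℤ} (hr : IsRoot cs h r) (hs : IsRoot cs h s) (hb : IsRoot cs h b) (hrs : Bf A r s = 1)
    (hall : ∀ a, IsRoot cs h a → 0 < Bf A a r + Bf A a s → 0 ≤ Bf A b a) : b = r ∨ b = s := by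
  have hR := roots cs h h4 h6
  have hsr : Bf A s r = 1 := by rw [hR.symm]; exact hrs
  have h1 := hall r hr (by rw [hR.two r hr, hrs]; norm_num)
  have h2 := hall s hs (by rw [hR.two s hs, hsr]; norm_num)
  have l1 := hR.le b hb r hr
  have l2 := hR.le b hb s hs
  by_cases e1 : Bf A b r = 2
  · exact Or.inl (hR.eq b hb r hr e1)
  by_cases e2 : Bf A b s = 2
  · exact Or.inr (hR.eq b hb s hs e2)
  exfalso
  have key : ∀ {r s : I → ℤ}, IsRoot cs h r → IsRoot cs h s → Bf A r s = 1 →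
      (∀ a, IsRoot cs h a → 0 < Bf A a r + Bf A a s → 0 ≤ Bf A b a) → Bf A b r = 1 → Bf A b s ≤ 1 → False := by
    intro r s hr hs hrs hall e3 e4
    have hrb : Bf A r b = 1 := by rw [hR.symm]; exact e3
    have h3 := hall (r - b) (hR.sub_mem hr hb hrb) (by
      rw [hR.sub_left, hR.sub_left, hR.two r hr, hrs, e3]; omega)
    rw [hR.sub_right, hR.two b hb, e3] at h3
    omega
  by_cases e3 : Bf A b r = 1
  · exact key hr hs hrs hall e3 (by omega)
  by_cases e4 : Bf A b s = 1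
  · exact key hs hr hsr (fun a ha h0 => hall a ha (by omega)) e4 (by omega)
  obtain ⟨a, ha, har, has, hab⟩ := nb h4 h6 hirr hr hs hb hrs (by omega) (by omega)
  have h3 := hall a ha (by omega)
  rw [hR.symm, hab] at h3
  omega

end Comb

/-! ### Automorphisms -/

/-- the roots are conjugate -/
theorem exists_rep {I W Y : Type*} [Fintype I] [DecidableEq I] [Group W] [Group Y] {M : CoxeterMatrix I}
    {K : Subgroup Y} {q : ℕ} {cs : CoxeterSystem M W} {A : I → I → ℤ} {h : IsCartan M A} {T : Subgroup Y}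
    {n : I → Y} {X : (I → ℤ) → Subgroup Y} [Finite W] (D : Datum K q cs h T n X) {r₀ r : I → ℤ}
    (hr₀ : IsRoot cs h r₀) (hr : IsRoot cs h r) : ∃ w, rep cs h w r₀ = r := by
  have h2 : 2 ≤ Fintype.card I := by have := D.three; omega
  refine ind D.h4 D.h6 D.irr h2 (P := fun r => ∃ w, rep cs h w r₀ = r) hr₀ ⟨1, by
    rw [map_one, Module.End.one_apply]⟩ ?_ hr
  rintro _ s _ hs hrs ⟨w, rfl⟩
  have hR := roots cs h D.h4 D.h6
  have hr' : IsRoot cs h (rep cs h w r₀) := hr₀.act w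
  obtain ⟨s', hs'⟩ : ∃ s' : W, ∀ y, rep cs h s' y = y - cpr cs h y (rep cs h w r₀ - s) • (rep cs h w r₀ - s) := by
    obtain ⟨v, i, e⟩ := hR.sub_mem hr' hs hrs
    refine ⟨v * cs.simple i * v⁻¹, fun y => ?_⟩
    rw [rep_mul_apply, rep_mul_apply, rep_simple_eq, map_sub, rep_apply_inv, map_smul,
      ← cpr_rep_sr (cs := cs) (h := h), ← e]
  refine ⟨s'⁻¹ * w, ?_⟩
  rw [rep_mul_apply]
  have h3 := rep_sub D.h4 D.h6 hr' hs hrs hs'
  rw [← h3, rep_inv_apply]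

section Aut

variable {I W Y : Type*} [Fintype I] [DecidableEq I] [Group W] [Group Y] {M : CoxeterMatrix I}
  {cs : CoxeterSystem M W} {A : I → I → ℤ} {h : IsCartan M A} {T : Subgroup Y} {n : I → Y}
  {X : (I → ℤ) → Subgroup Y} {K : Subgroup Y} {q : ℕ}

section Cent

variable [Finite W] [Finite Y] (D : Datum K q cs h T n X)

include D

theorem cen_two {τ : Y} (hτ : τ ∈ T) {r s b : I → ℤ} (hr : IsRoot cs h r) (hs : IsRoot cs h s)
    (hrs : Bf A r s = 1) (hc : ∀ a, IsRoot cs h a → 0 < Bf A a r + Bf A a s → a ∈ Cen cs h X τ)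
    (hb : IsRoot cs h b) : b ∈ Cen cs h X τ := by
  have hR := roots cs h D.h4 D.h6
  have hsr : Bf A s r = 1 := by rw [hR.symm]; exact hrs
  have hrC := hc r hr (by rw [hR.two r hr, hrs]; norm_num)
  have hsC := hc s hs (by rw [hR.two s hs, hsr]; norm_num)
  have e0 : r - s ∈ Cen cs h X τ := by
    rw [sub_eq_add_neg]
    exact cen_add D.rgd (PreOf.a2 D.h4 D.h6 hr hs.neg (by rw [hR.neg_right, hrs])) hrC (cen_neg D.rgd hτ hsC)
  by_cases h1 : 0 < Bf A b r + Bf A b s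
  · exact hc b hb h1
  by_cases h2 : Bf A b r + Bf A b s < 0
  · have := cen_neg D.rgd hτ (hc (-b) hb.neg (by rw [hR.neg_left, hR.neg_left]; omega))
    rwa [neg_neg] at this
  have g1 := hR.ge hb hr
  have g2 := hR.ge hb hs
  have l1 := hR.le b hb r hr
  by_cases e1 : Bf A b r = 0
  · have e2 : Bf A b s = 0 := by omega
    obtain ⟨a, ha, har, has, hab⟩ := nb D.h4 D.h6 D.irr hr hs hb hrs e1 e2
    have haC := hc a ha (by omega)
    have hab' : IsRoot cs h (a + b) := hR.add a ha b hb hab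
    have habC := hc (a + b) hab' (by rw [hR.add_left, hR.add_left]; omega)
    have e3 : b = (a + b) + -a := by abel
    rw [e3]
    refine cen_add D.rgd (PreOf.a2 D.h4 D.h6 hab' ha.neg ?_) habC (cen_neg D.rgd hτ haC)
    rw [hR.neg_right, hR.add_left, hR.two a ha, hR.symm b a, hab]
    norm_num
  by_cases e2 : 0 < Bf A b r
  · -- `b = r - s` or `b = r`
    by_cases e3 : Bf A b r = 2
    · rw [hR.eq b hb r hr e3]; exact hrC
    · have := hR.eq b hb (r - s) (hR.sub_mem hr hs hrs) (by rw [hR.sub_right]; omega)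
      rw [this]; exact e0
  · by_cases e3 : Bf A b r = -2
    · rw [hR.eq_neg hb hr e3]; exact cen_neg D.rgd hτ hrC
    · have := hR.eq (-b) hb.neg (r - s) (hR.sub_mem hr hs hrs) (by
        rw [hR.neg_left, hR.sub_right]; omega)
      have h3 := cen_neg D.rgd hτ e0
      rwa [← this, neg_neg] at h3

/-- `C_K(⟨X a : (a, r + s) > 0⟩) = X r X s` for `(r, s) = 1`. -/
theorem cent_two {r s : I → ℤ} (hr : IsRoot cs h r) (hs : IsRoot cs h s) (hrs : Bf A r s = 1) {g : Y}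
    (hg : g ∈ K) (hc : ∀ a, IsRoot cs h a → 0 < Bf A a r + Bf A a s → ∀ v ∈ X a, g * v = v * g) :
    g ∈ RGD.Sup X {r, s} := by
  have hL := OfDatum.lr D
  have hR := roots cs h D.h4 D.h6
  set P : Set (I → ℤ) := {a | IsRoot cs h a ∧ 0 < Bf A a r + Bf A a s} with hP
  have hL' : ∀ a ∈ P, LR D.rgd a := fun a ha => hL a ha.1
  obtain ⟨τ, hτ, hPτ, z, hz, rfl⟩ := cent_eq D.rgd hL' (star_comm hL') (by rw [D.GG_eq]; exact hg)
    (fun a ha v hv => hc a ha.1 ha.2 v hv)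
  have h1 : τ = 1 := D.cent τ hτ fun b hb =>
    (cen_two D hτ hr hs hrs (fun a ha h0 => hPτ ⟨ha, h0⟩) hb).2
  rw [h1, one_mul]
  refine RGD.Sup_mono ?_ hz
  intro b hb
  refine star_two D.h4 D.h6 D.irr hr hs hb.1 hrs fun a ha h0 => ?_
  rw [bf_eq_cpr D.h4 D.h6 _ ha]
  exact hb.2 a ⟨ha, h0⟩

end Cent

variable [Finite W] [Finite Y] (D : Datum (⊤ : Subgroup Y) q cs h T n X)

include D

theorem hab (i : I) : ∀ a ∈ X (sr i), ∀ b ∈ X (sr i), a * b = b * a := by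
  intro a ha b hb
  have h1 := Xsq D.h4 D.h6 D.irr D.three D.rgd (sr i) (isRoot_sr cs h i)
  have e1 : a⁻¹ = a := inv_eq_of_mul_eq_one_left (h1 a ha)
  have e2 : b⁻¹ = b := inv_eq_of_mul_eq_one_left (h1 b hb)
  have e3 : a * b = (a * b)⁻¹ := eq_inv_of_mul_eq_one_left (h1 _ (mul_mem ha hb))
  rw [e3, mul_inv_rev, e1, e2]

/-- `r` is a sum of two roots `a`, `b` with `(a, r) = (b, r) = 1` -/
theorem split {r : I → ℤ} (hr : IsRoot cs h r) :
    ∃ a b, IsRoot cs h a ∧ IsRoot cs h b ∧ Bf A a r = 1 ∧ Bf A b r = 1 ∧ r = a + b := by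
  have hR := roots cs h D.h4 D.h6
  obtain ⟨s, hs, hrs⟩ := exists_neg_one D.h4 D.h6 D.irr D.three hr
  refine ⟨r + s, -s, hR.add r hr s hs hrs, hs.neg, ?_, ?_, by abel⟩
  · rw [hR.add_left, hR.two r hr, hR.symm s r, hrs]; norm_num
  · rw [hR.neg_left, hR.symm, hrs]; norm_num

/-- automorphisms trivial on `⟨X a : (a, r) > 0⟩` -/
theorem aut1 {r : I → ℤ} (hr : IsRoot cs h r) {α : MulAut Y}
    (hα : ∀ a, IsRoot cs h a → 0 < Bf A a r → ∀ v ∈ X a, α v = v) : ∃ z ∈ X r, α = MulAut.conj z := by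
  have hsl := PreOf.sl (cs := cs) (h := h) D.h4 D.h6
  obtain ⟨z, hz, e⟩ := Cfsg.Agent.KFacts.RgdAutN.autN D.rgd D.gen (hab D) (fn r D.h4 D.h6 cs h) (S := {r}) (by
      rintro c rfl
      obtain ⟨a, b, ha, hb, h1, h2, h3⟩ := split D hr
      exact ⟨hr, a, b, ha, hb, by rw [fn_apply, h1]; norm_num, by rw [fn_apply, h2]; norm_num, h3⟩) (by
      intro g hg
      refine RGD.le_Sup (S := {r}) rfl ?_
      refine f3_rad hsl hr (OfDatum.orth' D hr) D.rgd (OfDatum.lr D) D.cent (by rw [D.GG_eq]; trivial) ?_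
      intro a ha v hv
      exact hg a ha.1 (by rw [fn_apply, bf_eq_cpr D.h4 D.h6 _ hr]; have := ha.2; omega) v hv)
    (α := α) (fun a ha h0 v hv => hα a ha h0 v hv)
  refine ⟨z, ?_, e⟩
  refine (RGD.Sup_le fun c hc => ?_ : RGD.Sup X {r} ≤ X r) hz
  rw [Set.mem_singleton_iff] at hc
  rw [hc]

/-- automorphisms trivial on `⟨X a : (a, r + s) > 0⟩`, `(r, s) = 1` -/
theorem aut2 {r s : I → ℤ} (hr : IsRoot cs h r) (hs : IsRoot cs h s) (hrs : Bf A r s = 1) {α : MulAut Y}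
    (hα : ∀ a, IsRoot cs h a → 0 < Bf A a r + Bf A a s → ∀ v ∈ X a, α v = v) :
    ∃ x ∈ X r, ∃ y ∈ X s, α = MulAut.conj (x * y) := by
  have hR := roots cs h D.h4 D.h6
  have hsr : Bf A s r = 1 := by rw [hR.symm]; exact hrs
  -- a sum of two roots
  have key : ∀ {r s : I → ℤ}, IsRoot cs h r → IsRoot cs h s → Bf A r s = 1 →
      ∃ a b, IsRoot cs h a ∧ IsRoot cs h b ∧ 0 < Bf A a r + Bf A a s ∧ 0 < Bf A b r + Bf A b s ∧ r = a + b := by
    intro r s hr hs hrs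
    obtain ⟨m, hm, hmr, hms⟩ := three D.h4 D.h6 D.irr D.three r hr s hs hrs
    have hrm : Bf A r m = 1 := by rw [hR.symm]; exact hmr
    refine ⟨m, r - m, hm, hR.sub_mem hr hm hrm, by omega, ?_, by abel⟩
    rw [hR.sub_left, hR.sub_left, hR.two r hr, hmr, hrs, hms]
    norm_num
  obtain ⟨z, hz, e⟩ := Cfsg.Agent.KFacts.RgdAutN.autN D.rgd D.gen (hab D)
    (fn r D.h4 D.h6 cs h + fn s D.h4 D.h6 cs h) (S := {r, s}) (by
      rintro c (rfl | hc)
      · obtain ⟨a, b, ha, hb, h1, h2, h3⟩ := key hr hs hrs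
        exact ⟨hr, a, b, ha, hb, h1, h2, h3⟩
      · rw [Set.mem_singleton_iff] at hc
        subst hc
        obtain ⟨a, b, ha, hb, h1, h2, h3⟩ := key hs hr hsr
        refine ⟨hs, a, b, ha, hb, ?_, ?_, h3⟩
        · show 0 < Bf A a r + Bf A a c
          omega
        · show 0 < Bf A b r + Bf A b c
          omega) (by
      intro g hg
      exact cent_two D hr hs hrs (Subgroup.mem_top g) fun a ha h0 v hv => hg a ha h0 v hv)
    (α := α) (fun a ha h0 v hv => hα a ha h0 v hv)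
  have hcomm : ∀ x ∈ X r, ∀ y ∈ X s, x * y = y * x := fun x hx y hy =>
    (OfDatum.lr D s hs).comm r hr (by rw [← bf_eq_cpr D.h4 D.h6 _ hs, hrs]; norm_num) x hx y hy
  have h1 : z ∈ X r ⊔ X s := by
    refine (RGD.Sup_le fun c hc => ?_ : RGD.Sup X {r, s} ≤ X r ⊔ X s) hz
    rcases hc with rfl | hc
    · exact le_sup_left
    · rw [Set.mem_singleton_iff] at hc
      rw [hc]; exact le_sup_right
  obtain ⟨x, hx, y, hy, e'⟩ := OfDatum.mem_sup_of_comm hcomm h1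
  exact ⟨x, hx, y, hy, by rw [e, e']⟩

end Aut

/-! ### The whole of `C(t)` -/

/-- `K ⊴ C(t)`, `C(t) ∩ C(K) = ⟨t⟩`, `t ∉ K`. -/
structure Full {G : Type*} [Group G] (t : G) (K : Subgroup G) : Prop where
  tt : t * t = 1
  tK : t ∉ K
  Kt : ∀ k ∈ K, t * k = k * t
  nrm : ∀ g, g * t = t * g → ∀ u ∈ K, g * u * g⁻¹ ∈ K
  cK : ∀ g, g * t = t * g → (∀ u ∈ K, g * u = u * g) → g = 1 ∨ g = t

theorem _root_.Cfsg.Agent.OddHalf.SL.OfDatum.Clean.full {G : Type*} [Group G] {t : G} {K : Subgroup G}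
    (C : OfDatum.Clean t K) : Full t K := ⟨C.tt, C.tK, C.Kt, C.nrm, C.cK⟩

namespace Full

variable {G : Type*} [Group G] {t : G} {K : Subgroup G} (C : Full t K)

include C

theorem mem_normalizer {g : G} (hg : g * t = t * g) : g ∈ Subgroup.normalizer (K : Set G) := by
  have hg' : g⁻¹ * t = t * g⁻¹ := (show Commute g t from hg).inv_left.eq
  rw [Subgroup.mem_normalizer_iff]
  intro u
  refine ⟨fun hu => C.nrm g hg u hu, fun hu => ?_⟩
  have := C.nrm g⁻¹ hg' _ hu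
  have e : g⁻¹ * (g * u * g⁻¹) * g⁻¹⁻¹ = u := by group
  rwa [e] at this

/-- An element of `C(t)` inducing the inner automorphism of `z ∈ K`. -/
theorem eq_of_conj {g : G} (hg : g * t = t * g) {z : ↥K}
    (hz : ∀ k : ↥K, g * k * g⁻¹ = (z : G) * k * (z : G)⁻¹) : g = z ∨ t * g = z := by
  have h1 : ((z : G)⁻¹ * g) * t = t * ((z : G)⁻¹ * g) := by
    have c1 : Commute t (z : G) := C.Kt z z.2
    have c2 : Commute t g := (show Commute g t from hg).symm
    exact (c1.inv_right.mul_right c2).symm.eq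
  have h2 := C.cK _ h1 fun u hu => by
    have h3 := hz ⟨u, hu⟩
    calc (z : G)⁻¹ * g * u = (z : G)⁻¹ * (g * u * g⁻¹) * g := by group
      _ = (z : G)⁻¹ * ((z : G) * u * (z : G)⁻¹) * g := by rw [h3]
      _ = u * ((z : G)⁻¹ * g) := by group
  rcases h2 with h2 | h2
  · exact Or.inl (inv_mul_eq_one.1 h2).symm
  · right
    have h3 : g = z * t := by rw [← h2]; group
    rw [h3, ← C.Kt z z.2, ← mul_assoc, C.tt, one_mul]

end Full

section Main

variable {I W G : Type*} [Fintype I] [DecidableEq I] [Group W] [Group G] {M : CoxeterMatrix I}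
  {cs : CoxeterSystem M W} {A : I → I → ℤ} {h : IsCartan M A} {K : Subgroup G} {q : ℕ} {T₀ : Subgroup ↥K}
  {n : I → ↥K} {X : (I → ℤ) → Subgroup ↥K} {t : G} {T : Subgroup G} {n' : I → G}

section

variable [Finite W] [Finite G] (D₀ : Datum (⊤ : Subgroup ↥K) q cs h T₀ n X) (C : Full t K)

include D₀ C

/-- **(K1)** for the whole of `C(t)` -/
theorem K1' : ∀ r ∈ {x | IsRoot cs h x}, ∀ c, c * t = t * c →
    (∀ a ∈ {x | IsRoot cs h x}, 1 ≤ Bf A a r → ∀ x ∈ (X a).map K.subtype, c * x = x * c) →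
    c ∈ (X r).map K.subtype ∨ t * c ∈ (X r).map K.subtype := by
  intro r hr c hct hc
  obtain ⟨z, hz, e⟩ := aut1 D₀ hr (α := Subgroup.normalizerMonoidHom K ⟨c, C.mem_normalizer hct⟩) (by
    intro a ha h0 v hv
    apply Subtype.ext
    show c * (v : G) * c⁻¹ = v
    rw [hc a ha h0 v ⟨v, hv, rfl⟩, mul_inv_cancel_right])
  have h1 := C.eq_of_conj hct (z := z) fun k => by
    have h2 := congrArg (fun f : MulAut ↥K => ((f k : ↥K) : G)) e
    exact h2
  rcases h1 with h1 | h1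
  · exact Or.inl ⟨z, hz, h1.symm⟩
  · exact Or.inr ⟨z, hz, h1.symm⟩

/-- **(K2)** for the whole of `C(t)` -/
theorem K2' : ∀ r ∈ {x | IsRoot cs h x}, ∀ s ∈ {x | IsRoot cs h x}, Bf A r s = 1 → ∀ c, c * t = t * c →
    (∀ a ∈ {x | IsRoot cs h x}, 0 ≤ Bf A a r → 0 ≤ Bf A a s → ∀ x ∈ (X a).map K.subtype, c * x = x * c) →
    ∃ x ∈ (X r).map K.subtype, ∃ y ∈ (X s).map K.subtype, c = x * y ∨ c = t * (x * y) := by
  intro r hr s hs hrs c hct hc
  have hR := roots cs h D₀.h4 D₀.h6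
  have hsr : Bf A s r = 1 := by rw [hR.symm]; exact hrs
  obtain ⟨x, hx, y, hy, e⟩ := aut2 D₀ hr hs hrs
    (α := Subgroup.normalizerMonoidHom K ⟨c, C.mem_normalizer hct⟩) (by
    intro a ha h0 v hv
    apply Subtype.ext
    show c * (v : G) * c⁻¹ = v
    have l1 := hR.le a ha r hr
    have l2 := hR.le a ha s hs
    have k1 : 0 ≤ Bf A a r := by
      by_contra hneg
      have h1 := hR.eq a ha s hs (by omega)
      rw [h1, hsr] at hneg
      omega
    have k2 : 0 ≤ Bf A a s := by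
      by_contra hneg
      have h1 := hR.eq a ha r hr (by omega)
      rw [h1, hrs] at hneg
      omega
    rw [hc a ha k1 k2 v ⟨v, hv, rfl⟩, mul_inv_cancel_right])
  have h1 := C.eq_of_conj hct (z := x * y) fun k => by
    have h2 := congrArg (fun f : MulAut ↥K => ((f k : ↥K) : G)) e
    exact h2
  refine ⟨x, ⟨x, hx, rfl⟩, y, ⟨y, hy, rfl⟩, ?_⟩
  rcases h1 with h1 | h1
  · exact Or.inl h1
  · refine Or.inr ?_
    have h2 : c = t * (t * c) := by rw [← mul_assoc, C.tt, one_mul]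
    rw [h2, h1]; rfl

variable (D : Datum K q cs h T n' (fun r => (X r).map K.subtype))

include D

theorem pre {V : (I → ℤ) → Subgroup G} (Y : YData D.rgd t V) :
    Defs.Pre t (Bf A) {x | IsRoot cs h x} (fun r => (X r).map K.subtype) V := by
  refine PreOf.pre D.h4 D.h6 D.irr D.three Y C.tt (fun r hr x hx => C.Kt x (D.XK hr hx)) ?_ (K1' D₀ C) (K2' D₀ C)
  intro ht
  exact C.tK ((iSup₂_le fun a ha => D.XK ha :
    (⨆ r ∈ {x | IsRoot cs h x}, (X r).map K.subtype) ≤ K) ht)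

omit D₀ C in
/-- root groups of order `> 2` -/
theorem three_elts (hq : 2 < q) : ∀ r, IsRoot cs h r → ∃ x ∈ (X r).map K.subtype, ∃ y ∈ (X r).map K.subtype,
    x ≠ 1 ∧ y ≠ 1 ∧ x ≠ y := by
  intro r hr
  have h1 : 2 < Nat.card ↥((X r).map K.subtype) := by rw [D.card r hr]; exact hq
  obtain ⟨x, hx, hx1⟩ : ∃ x ∈ (X r).map K.subtype, x ≠ 1 := by
    by_contra hcon
    push Not at hcon
    have : Subsingleton ↥((X r).map K.subtype) := ⟨fun a b => Subtype.ext (by rw [hcon a a.2, hcon b b.2])⟩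
    have := Nat.card_of_subsingleton (1 : ↥((X r).map K.subtype))
    omega
  by_contra hcon
  push Not at hcon
  have hs : Function.Surjective (fun b : Bool => if b then (1 : ↥((X r).map K.subtype)) else ⟨x, hx⟩) := by
    intro y
    by_cases h0 : (y : G) = 1
    · exact ⟨true, Subtype.ext h0.symm⟩
    · exact ⟨false, Subtype.ext (hcon x hx y y.2 hx1 h0)⟩
  have h2 := Nat.card_le_card_of_surjective _ hs
  simp only [Nat.card_eq_fintype_card, Fintype.card_bool] at h2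
  omega

/-- The growth, `q > 2`, from the doubled root groups. -/
theorem dbl_of_yData (hq : 2 < q) {V : (I → ℤ) → Subgroup G} (Y : YData D.rgd t V) :
    Defs.Dbl t (Bf A) {x | IsRoot cs h x} (fun r => (X r).map K.subtype) V := by
  have hR := roots cs h D.h4 D.h6
  refine Main.dbl_of_big (pre D₀ C D Y)
    (big D.h4 D.h6 D.irr D.three Y (fun δ hδ => (C.Kt δ (D.TK hδ)).symm) (three_elts D hq)) ?_
  intro r hr
  obtain ⟨s, hs, hrs⟩ := exists_neg_one D.h4 D.h6 D.irr D.three hr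
  exact ⟨-s, hs.neg, by rw [hR.neg_right, hrs]; norm_num⟩

/-- **THE GROWTH, `q > 2`**, outer automorphisms included. -/
theorem dbl_of_base (hq : 2 < q) {r₀ : I → ℤ} {V₀ : Subgroup G} (B : Base0.Base0 D.rgd t r₀ V₀) :
    ∃ V : (I → ℤ) → Subgroup G, V r₀ = V₀ ∧ YData D.rgd t V ∧
      Defs.Dbl t (Bf A) {x | IsRoot cs h x} (fun r => (X r).map K.subtype) V := by
  have h2 : 2 ≤ Fintype.card I := by have := D.three; omega
  have htr : ∀ r, IsRoot cs h r → ∃ w, rep cs h w r₀ = r := fun r hr => exists_rep D B.root hr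
  have Y0 := B.yData0 htr (bf_rep D.h4 D.h6)
  have hc : ∀ r, IsRoot cs h r → 2 < Nat.card ↥((X r).map K.subtype) := fun r hr => by rw [D.card r hr]; exact hq
  have Y := Y0.yData D.h4 D.h6 D.irr D.three C.tt (fun r hr x hx => C.Kt x (D.XK hr hx)) B.tN (K2' D₀ C) hc
  refine ⟨_, ?_, Y, dbl_of_yData D₀ C D hq Y⟩
  have h1 := B.wf_eq (w := 1) (k := 1) (rp_of_mem (cs := cs) (hN := D.rgd.nsys) (one_mem _))
  rw [map_one, Module.End.one_apply] at h1
  rw [h1]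
  ext v
  rw [mem_cj]
  simp

/-- **THE GROWTH, `q = 2`**, outer automorphisms included. -/
theorem dbl_of_base_two (hq : q = 2) {r₀ : I → ℤ} {V₀ : Subgroup G} (B : Base0.Base0 D.rgd t r₀ V₀)
    (sq : ∀ w ∈ V₀, w * w = 1) :
    ∃ V : (I → ℤ) → Subgroup G, V r₀ = V₀ ∧ YData D.rgd t V ∧
      Defs.Dbl t (Bf A) {x | IsRoot cs h x} (fun r => (X r).map K.subtype) V := by
  have htr : ∀ r, IsRoot cs h r → ∃ w, rep cs h w r₀ = r := fun r hr => exists_rep D B.root hr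
  have Y0 := B.yData0 htr (bf_rep D.h4 D.h6)
  have sq' : ∀ r, IsRoot cs h r → ∀ w ∈ Base0.Wf D.rgd r₀ V₀ r, w * w = 1 := by
    intro r hr v hv
    obtain ⟨w, rfl⟩ := htr r hr
    obtain ⟨k, hk⟩ := exists_rp cs D.rgd.nsys w
    rw [B.wf_eq hk, mem_cj] at hv
    have h1 := sq _ hv
    calc v * v = k * ((k⁻¹ * v * k) * (k⁻¹ * v * k)) * k⁻¹ := by group
      _ = 1 := by rw [h1]; group
  have Y := Y0.yData_two sq'
  refine ⟨_, ?_, Y, TwoMain.dbl_of_two (pre D₀ C D Y) (two D.h4 D.h6 D.irr D.three ?_ sq')⟩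
  · have h1 := B.wf_eq (w := 1) (k := 1) (rp_of_mem (cs := cs) (hN := D.rgd.nsys) (one_mem _))
    rw [map_one, Module.End.one_apply] at h1
    rw [h1]
    ext v
    rw [mem_cj]
    simp
  · intro r hr x hx y hy hx1 hy1
    by_contra hne
    have h1 : Nat.card ↥((X r).map K.subtype) = 2 := by rw [D.card r hr, hq]
    have hi : Function.Injective (fun i : Fin 3 => if i = 0 then (1 : ↥((X r).map K.subtype)) else
        if i = 1 then ⟨x, hx⟩ else ⟨y, hy⟩) := by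
      intro i j hij
      have h2 := congrArg Subtype.val hij
      fin_cases i <;> fin_cases j <;> simp at h2 ⊢
      · exact hx1 h2.symm
      · exact hy1 h2.symm
      · exact hx1 h2
      · exact hne h2
      · exact hy1 h2
      · exact hne h2.symm
    have h2 := Nat.card_le_card_of_injective _ hi
    rw [h1, Nat.card_eq_fintype_card, Fintype.card_fin] at h2
    omega

end

end Main

end Cfsg.Agent.OddHalf.SL.OfAut

end
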