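import Cfsg.Agent.OddHalf.SL.General

-- merged: Cfsg.Agent.OddHalf.SL.Core
section

/-!
# Doubling the root groups: `[W r, W s]` for `(r, s) = 1` (helper186)

* `comm_mem`: `[W r, W s] ≤ X r X s`;
* `gen`, `gen_comm`, `gen_cent`: `F = ⟨W r, W s ^ X (r - s)⟩` is abelian modulo `E = X r X s ≤ Z(F)`;
* `ker_form`: elements of `F` commuting with `t` lie in `⟨t⟩ E`.
-/

set_option autoImplicit false

namespace Cfsg.Agent.OddHalf.SL.Core

open Cfsg.Agent.OddHalf.SL.Defs Cfsg.Agent.OddHalf.SL.General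

variable {L : Type*} [AddCommGroup L] {G : Type*} [Group G]

/-- the bracket with `t` -/
def bt (t w : G) : G := w⁻¹ * (t * w * t)

theorem tw (t w : G) : t * w * t = w * bt t w := by unfold bt; group

theorem bt_mul {t v w : G} (tt : t * t = 1) (h : bt t v * w = w * bt t v) :
    bt t (v * w) = bt t v * bt t w := by
  have h1 : bt t v * w⁻¹ = w⁻¹ * bt t v := by
    have : Commute (bt t v) w := h
    exact this.inv_right.eq
  calc bt t (v * w) = w⁻¹ * v⁻¹ * (t * (v * w) * t) := by unfold bt; group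
    _ = w⁻¹ * (v⁻¹ * (t * v * (t * t) * w * t)) := by rw [tt]; group
    _ = (w⁻¹ * bt t v) * (t * w * t) := by unfold bt; group
    _ = bt t v * bt t w := by rw [← h1]; unfold bt; group

theorem bt_eq_one {t w : G} (tt : t * t = 1) (h : bt t w = 1) : t * w = w * t := by
  have h1 := tw t w
  rw [h, mul_one] at h1
  calc t * w = t * w * (t * t) := by rw [tt, mul_one]
    _ = (t * w * t) * t := by group
    _ = w * t := by rw [h1]

theorem bt_of_comm {t w : G} (tt : t * t = 1) (h : t * w = w * t) : bt t w = 1 := by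
  unfold bt
  rw [h, mul_assoc w, tt, mul_one, inv_mul_cancel]

theorem comm_conj {g x : G} (h : g * x = x * g) : g * x * g⁻¹ = x := by
  rw [h, mul_assoc, mul_inv_cancel, mul_one]

/-- commutators commute with everything commuting with the entries -/
theorem comm_comm {v u k : G} (hv : v * k = k * v) (hu : u * k = k * u) :
    (v * u * v⁻¹ * u⁻¹) * k = k * (v * u * v⁻¹ * u⁻¹) := by
  have h1 : Commute v k := hv
  have h2 : Commute u k := hu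
  exact (((h1.mul_left h2).mul_left h1.inv_left).mul_left h2.inv_left).eq

/-- conjugation by `t` -/
theorem t_comm_of {t c c' : G} (tt : t * t = 1) (h : t * c * t = c') (h2 : c' = c) : c * t = t * c := by
  rw [h2] at h
  calc c * t = (t * t) * c * t := by rw [tt, one_mul]
    _ = t * (t * c * t) := by group
    _ = t * c := by rw [h]

/-- the exclusion of the component `t` -/
theorem excl {t v u w : G} (hc : v * u * v⁻¹ * u⁻¹ = t * w) (tt : t * t = 1) (hwv : w * v = v * w)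
    (huv : u * (v * v) = (v * v) * u) : w⁻¹ * (t * w⁻¹ * t) * (v * bt t v * v) = v * v := by
  have h1 : u * v * u⁻¹ = w⁻¹ * t * v := by
    have hti : t⁻¹ = t := inv_eq_of_mul_eq_one_left tt
    have h2 : (v * u * v⁻¹ * u⁻¹)⁻¹ = w⁻¹ * t := by rw [hc, mul_inv_rev, hti]
    calc u * v * u⁻¹ = (v * u * v⁻¹ * u⁻¹)⁻¹ * v := by group
      _ = _ := by rw [h2]
  have h2 : (u * v * u⁻¹) * (u * v * u⁻¹) = v * v := by
    calc (u * v * u⁻¹) * (u * v * u⁻¹) = u * (v * v) * u⁻¹ := by group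
      _ = v * v := comm_conj huv
  rw [h1] at h2
  rw [← h2]
  have hwv' : w⁻¹ * v = v * w⁻¹ := by
    have : Commute w v := hwv
    exact this.inv_left.eq
  calc w⁻¹ * (t * w⁻¹ * t) * (v * bt t v * v) = w⁻¹ * (t * w⁻¹ * t) * ((t * v * t) * v) := by
        rw [tw t v]
    _ = w⁻¹ * t * w⁻¹ * (t * t) * v * t * v := by group
    _ = w⁻¹ * t * (w⁻¹ * v) * t * v := by rw [tt]; group
    _ = w⁻¹ * t * v * (w⁻¹ * t * v) := by rw [hwv']; group

variable {t : G} {B : L → L → ℤ} {Φ : Set L} {X W : L → Subgroup G} {Y : L → L → Set G}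

theorem ti (h : PreY t B Φ X W Y) : t⁻¹ = t := inv_eq_of_mul_eq_one_left h.tt

theorem bt_mem (h : PreY t B Φ X W Y) {r : L} (hr : r ∈ Φ) {w : G} (hw : w ∈ W r) : bt t w ∈ X r :=
  h.brk r hr w hw

theorem mem_X_of_bt (h : PreY t B Φ X W Y) {r : L} (hr : r ∈ Φ) {w : G} (hw : w ∈ W r)
    (hb : bt t w = 1) : w ∈ X r := h.cent r hr w hw (bt_eq_one h.tt hb)

theorem XX (h : PreY t B Φ X W Y) {r s : L} (hr : r ∈ Φ) (hs : s ∈ Φ) (hrs : 0 ≤ B r s) {x y : G}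
    (hx : x ∈ X r) (hy : y ∈ X s) : x * y = y * x :=
  (h.WX s hs r hr hrs y (h.XW s hs hy) x hx).symm

theorem rr (h : PreY t B Φ X W Y) {r : L} (hr : r ∈ Φ) : 0 ≤ B r r := by rw [h.roots.two r hr]; norm_num

theorem bt_hom (h : PreY t B Φ X W Y) {r : L} (hr : r ∈ Φ) {v w : G} (hv : v ∈ W r) (hw : w ∈ W r) :
    bt t (v * w) = bt t v * bt t w :=
  bt_mul h.tt (h.WX r hr r hr (rr h hr) w hw _ (bt_mem h hr hv)).symm

theorem sq_mem (h : PreY t B Φ X W Y) {r : L} (hr : r ∈ Φ) {w : G} (hw : w ∈ W r) : w * w ∈ X r :=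
  mem_X_of_bt h hr (mul_mem hw hw) (by rw [bt_hom h hr hw hw]; exact h.Xsq r hr _ (bt_mem h hr hw))

theorem Xi (h : PreY t B Φ X W Y) {r : L} (hr : r ∈ Φ) {x : G} (hx : x ∈ X r) : x⁻¹ = x :=
  inv_eq_of_mul_eq_one_left (h.Xsq r hr x hx)

theorem exists_ne (h : PreY t B Φ X W Y) {r : L} (hr : r ∈ Φ) : ∃ g ∈ X r, g ≠ 1 := by
  by_contra hcon
  push Not at hcon
  exact h.Xne r hr ((Subgroup.eq_bot_iff_forall _).2 hcon)

/-- bookkeeping for `d = r - s`, `(r, s) = 1` -/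
structure Tri (B : L → L → ℤ) (Φ : Set L) (r s : L) : Prop where
  hr : r ∈ Φ
  hs : s ∈ Φ
  hd : r - s ∈ Φ
  hd' : s - r ∈ Φ
  rs : B r s = 1
  sr : B s r = 1
  dr : B (r - s) r = 1
  ds : B (r - s) s = -1
  ds' : B (s - r) s = 1
  dr' : B (s - r) r = -1

theorem Tri.of (h : PreY t B Φ X W Y) {r s : L} (hr : r ∈ Φ) (hs : s ∈ Φ) (hrs : B r s = 1) :
    Tri B Φ r s := by
  have hsr : B s r = 1 := by rw [h.roots.symm]; exact hrs
  refine ⟨hr, hs, h.roots.sub_mem hr hs hrs, h.roots.sub_mem hs hr hsr, hrs, hsr, ?_, ?_, ?_, ?_⟩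
  · rw [h.roots.sub_left, h.roots.two r hr, hsr]; norm_num
  · rw [h.roots.sub_left, h.roots.two s hs, hrs]; norm_num
  · rw [h.roots.sub_left, h.roots.two s hs, hrs]; norm_num
  · rw [h.roots.sub_left, h.roots.two r hr, hsr]; norm_num

theorem Tri.symm {r s : L} (T : Tri B Φ r s) : Tri B Φ s r :=
  ⟨T.hs, T.hr, T.hd', T.hd, T.sr, T.rs, T.ds', T.dr', T.dr, T.ds⟩

/-- `X r ∩ X s = 1` for `(r, s) = 1` -/
theorem disj (h : PreY t B Φ X W Y) {r s : L} (T : Tri B Φ r s) {x : G} (hx : x ∈ X r) (hx' : x ∈ X s) :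
    x = 1 := by
  obtain ⟨g, hg, hg1⟩ := exists_ne h T.hd
  have h1 : g * x = x * g := XX h T.hd T.hr (by rw [T.dr]; norm_num) hg hx
  rcases h.Xnd _ T.hd _ T.hs T.ds g hg x hx' h1 with h2 | h2
  · exact absurd h2 hg1
  · exact h2

/-- conjugates of `X s` under `X (r - s)` -/
theorem conj_X (h : PreY t B Φ X W Y) {r s : L} (T : Tri B Φ r s) {g y : G} (hg : g ∈ X (r - s))
    (hy : y ∈ X s) : g * y * g⁻¹ * y⁻¹ ∈ X r := by
  have h1 := h.Xneg _ T.hd _ T.hs T.ds g hg y hy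
  have e : r - s + s = r := by abel
  rwa [e] at h1

/-- `t` commutes with `[v, u]` for `(r, s) ≥ 0` -/
theorem comm_t (h : PreY t B Φ X W Y) {r s : L} (hr : r ∈ Φ) (hs : s ∈ Φ) (hrs : 0 ≤ B r s)
    {v u : G} (hv : v ∈ W r) (hu : u ∈ W s) :
    (v * u * v⁻¹ * u⁻¹) * t = t * (v * u * v⁻¹ * u⁻¹) := by
  have hsr : 0 ≤ B s r := by rw [h.roots.symm]; exact hrs
  obtain ⟨x, hx⟩ : ∃ x, x = bt t v := ⟨_, rfl⟩
  obtain ⟨y, hy⟩ : ∃ y, y = bt t u := ⟨_, rfl⟩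
  have hxX : x ∈ X r := by rw [hx]; exact bt_mem h hr hv
  have hyX : y ∈ X s := by rw [hy]; exact bt_mem h hs hu
  have xu : Commute x u := (h.WX s hs r hr hrs u hu x hxX).symm
  have xv : Commute x v := (h.WX r hr r hr (rr h hr) v hv x hxX).symm
  have yu : Commute y u := (h.WX s hs s hs (rr h hs) u hu y hyX).symm
  have yv : Commute y v := (h.WX r hr s hs hsr v hv y hyX).symm
  have xy : Commute x y := XX h hr hs hrs hxX hyX
  refine t_comm_of h.tt (c' := (v * x) * (u * y) * (v * x)⁻¹ * (u * y)⁻¹) ?_ ?_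
  · rw [hx, hy, ← tw, ← tw]
    have hti := ti h
    rw [mul_inv_rev, mul_inv_rev, mul_inv_rev, mul_inv_rev, hti]
    calc t * (v * u * v⁻¹ * u⁻¹) * t = t * v * u * v⁻¹ * u⁻¹ * t := by group
      _ = t * v * (t * t) * u * (t * t) * v⁻¹ * (t * t) * u⁻¹ * t := by rw [h.tt]; group
      _ = _ := by group
  · have c1 : Commute x (u * y) := xu.mul_right xy
    have c2 : Commute y v := yv
    calc (v * x) * (u * y) * (v * x)⁻¹ * (u * y)⁻¹ = v * (x * (u * y)) * x⁻¹ * v⁻¹ * (u * y)⁻¹ := by group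
      _ = v * ((u * y) * x) * x⁻¹ * v⁻¹ * (u * y)⁻¹ := by rw [c1.eq]
      _ = v * u * (y * v⁻¹) * y⁻¹ * u⁻¹ := by group
      _ = v * u * (v⁻¹ * y) * y⁻¹ * u⁻¹ := by rw [c2.inv_right.eq]
      _ = v * u * v⁻¹ * u⁻¹ := by group

/-- a product `x y` -/
theorem sup_nt (h : PreY t B Φ X W Y) {r s : L} (hr : r ∈ Φ) (hs : s ∈ Φ) {x y : G} (hx : x ∈ X r)
    (hy : y ∈ X s) : x * y ≠ t := by
  intro h1
  apply h.tK
  rw [← h1]
  exact mul_mem (Subgroup.mem_iSup_of_mem r (Subgroup.mem_iSup_of_mem hr hx))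
    (Subgroup.mem_iSup_of_mem s (Subgroup.mem_iSup_of_mem hs hy))

/-- the component `t` of `[v, u]` is excluded, `(r, s) ≥ 0` -/
theorem no_t (h : PreY t B Φ X W Y) {r s : L} (hr : r ∈ Φ) (hs : s ∈ Φ) (hrs : 0 ≤ B r s)
    {v u x y : G} (hv : v ∈ W r) (hu : u ∈ W s) (hx : x ∈ X r) (hy : y ∈ X s)
    (hc : v * u * v⁻¹ * u⁻¹ = t * (x * y)) : False := by
  have hsr : 0 ≤ B s r := by rw [h.roots.symm]; exact hrs
  have xv : Commute x v := (h.WX r hr r hr (rr h hr) v hv x hx).symm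
  have yv : Commute y v := (h.WX r hr s hs hsr v hv y hy).symm
  have xy : x * y = y * x := XX h hr hs hrs hx hy
  have h1 := excl hc h.tt (xv.mul_left yv).eq (h.WX s hs r hr hrs u hu _ (sq_mem h hr hv))
  have hti := ti h
  have h2 : (x * y)⁻¹ * (t * (x * y)⁻¹ * t) = 1 := by
    have e : (x * y)⁻¹ = x * y := by rw [mul_inv_rev, Xi h hr hx, Xi h hs hy, xy]
    rw [e]
    have txy : t * (x * y) = (x * y) * t := by
      have c1 : Commute t x := h.tX r hr x hx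
      have c2 : Commute t y := h.tX s hs y hy
      exact (c1.mul_right c2).eq
    rw [txy, mul_assoc (x * y) t, h.tt, mul_one]
    calc x * y * (x * y) = x * y * (y * x) := by rw [← xy]
      _ = x * (y * y) * x := by group
      _ = 1 := by rw [h.Xsq s hs y hy, mul_one, h.Xsq r hr x hx]
  rw [h2, one_mul] at h1
  have h3 : bt t v = 1 := by
    have h4 : v * (bt t v * v) = v * v := by rw [← mul_assoc]; exact h1
    exact mul_eq_right.1 (mul_left_cancel h4)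
  have h4 : v ∈ X r := mem_X_of_bt h hr hv h3
  have h5 : v * u * v⁻¹ * u⁻¹ = 1 := by
    rw [← h.WX s hs r hr hrs u hu v h4]; group
  rw [h5] at hc
  have h6 : x * y = t := by
    have := eq_inv_of_mul_eq_one_right hc.symm
    rw [this, hti]
  exact sup_nt h hr hs hx hy h6

/-- `[W r, W s] ≤ X r X s` -/
theorem comm_mem (h : PreY t B Φ X W Y) {r s : L} (hr : r ∈ Φ) (hs : s ∈ Φ) (hrs : B r s = 1)
    {v u : G} (hv : v ∈ W r) (hu : u ∈ W s) :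
    ∃ x ∈ X r, ∃ y ∈ X s, v * u * v⁻¹ * u⁻¹ = x * y := by
  obtain ⟨x, hx, y, hy, h1⟩ := h.H1 r hr s hs hrs _ (comm_t h hr hs (by omega) hv hu) (fun k hk => by
    obtain ⟨h2, h3⟩ := h.YW r hr s hs k hk
    exact comm_comm (h2 v hv) (h3 u hu))
  rcases h1 with h1 | h1
  · exact ⟨x, hx, y, hy, h1⟩
  · exact (no_t h hr hs (by omega) hv hu hx hy h1).elim

/-! ### the group `F` -/

/-- `E = X r X s` -/
def Es (h : PreY t B Φ X W Y) {r s : L} (T : Tri B Φ r s) : Subgroup G where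
  carrier := {e | ∃ x ∈ X r, ∃ y ∈ X s, e = x * y}
  one_mem' := ⟨1, one_mem _, 1, one_mem _, (mul_one 1).symm⟩
  mul_mem' := by
    rintro _ _ ⟨x, hx, y, hy, rfl⟩ ⟨x', hx', y', hy', rfl⟩
    refine ⟨x * x', mul_mem hx hx', y * y', mul_mem hy hy', ?_⟩
    have h1 : x' * y = y * x' := XX h T.hr T.hs (by rw [T.rs]; norm_num) hx' hy
    calc x * y * (x' * y') = x * (y * x') * y' := by group
      _ = x * x' * (y * y') := by rw [← h1]; group
  inv_mem' := by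
    rintro _ ⟨x, hx, y, hy, rfl⟩
    refine ⟨x⁻¹, inv_mem hx, y⁻¹, inv_mem hy, ?_⟩
    have h1 : x * y = y * x := XX h T.hr T.hs (by rw [T.rs]; norm_num) hx hy
    rw [h1, mul_inv_rev]

theorem mem_Es (h : PreY t B Φ X W Y) {r s : L} (T : Tri B Φ r s) {e : G} :
    e ∈ Es h T ↔ ∃ x ∈ X r, ∃ y ∈ X s, e = x * y := Iff.rfl

theorem Es_left (h : PreY t B Φ X W Y) {r s : L} (T : Tri B Φ r s) {e : G} (he : e ∈ X r) :
    e ∈ Es h T := ⟨e, he, 1, one_mem _, (mul_one e).symm⟩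

theorem Es_right (h : PreY t B Φ X W Y) {r s : L} (T : Tri B Φ r s) {e : G} (he : e ∈ X s) :
    e ∈ Es h T := ⟨1, one_mem _, e, he, (one_mul e).symm⟩

theorem Es_symm (h : PreY t B Φ X W Y) {r s : L} (T : Tri B Φ r s) {e : G} (he : e ∈ Es h T) :
    e ∈ Es h T.symm := by
  obtain ⟨x, hx, y, hy, rfl⟩ := he
  exact ⟨y, hy, x, hx, XX h T.hr T.hs (by rw [T.rs]; norm_num) hx hy⟩

/-- `X (r - s)` normalises `E` -/
theorem Es_conj (h : PreY t B Φ X W Y) {r s : L} (T : Tri B Φ r s) {g e : G} (hg : g ∈ X (r - s))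
    (he : e ∈ Es h T) : g * e * g⁻¹ ∈ Es h T := by
  obtain ⟨x, hx, y, hy, rfl⟩ := he
  have h1 : g * x = x * g := XX h T.hd T.hr (by rw [T.dr]; norm_num) hg hx
  have h2 := conj_X h T hg hy
  have h3 : g * (x * y) * g⁻¹ = x * (g * y * g⁻¹ * y⁻¹) * y := by
    calc g * (x * y) * g⁻¹ = (g * x) * y * g⁻¹ := by group
      _ = x * (g * y * g⁻¹ * y⁻¹) * y := by rw [h1]; group
  rw [h3]
  exact mul_mem (mul_mem (Es_left h T hx) (Es_left h T h2)) (Es_right h T hy)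

theorem Es_conj' (h : PreY t B Φ X W Y) {r s : L} (T : Tri B Φ r s) {g e : G} (hg : g ∈ X (s - r))
    (he : e ∈ Es h T) : g * e * g⁻¹ ∈ Es h T :=
  Es_symm h T.symm (Es_conj h T.symm hg (Es_symm h T he))

/-- `E` centralises `W r` -/
theorem Es_comm_r (h : PreY t B Φ X W Y) {r s : L} (T : Tri B Φ r s) {e w : G} (he : e ∈ Es h T)
    (hw : w ∈ W r) : w * e = e * w := by
  obtain ⟨x, hx, y, hy, rfl⟩ := he
  have c1 : Commute w x := h.WX r T.hr r T.hr (rr h T.hr) w hw x hx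
  have c2 : Commute w y := h.WX r T.hr s T.hs (by rw [T.sr]; norm_num) w hw y hy
  exact (c1.mul_right c2).eq

theorem Es_comm_s (h : PreY t B Φ X W Y) {r s : L} (T : Tri B Φ r s) {e w : G} (he : e ∈ Es h T)
    (hw : w ∈ W s) : w * e = e * w := Es_comm_r h T.symm (Es_symm h T he) hw

theorem Es_comm_t (h : PreY t B Φ X W Y) {r s : L} (T : Tri B Φ r s) {e : G} (he : e ∈ Es h T) :
    t * e = e * t := by
  obtain ⟨x, hx, y, hy, rfl⟩ := he
  have c1 : Commute t x := h.tX r T.hr x hx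
  have c2 : Commute t y := h.tX s T.hs y hy
  exact (c1.mul_right c2).eq

/-- the generators of `F` -/
def Gn (X W : L → Subgroup G) (r s : L) : Set G :=
  {f | f ∈ W r ∨ ∃ g ∈ X (r - s), ∃ u ∈ W s, f = g * u * g⁻¹}

/-- the group `F` -/
def Fs (X W : L → Subgroup G) (r s : L) : Subgroup G := Subgroup.closure (Gn X W r s)

theorem Wr_le (X W : L → Subgroup G) (r s : L) : W r ≤ Fs X W r s :=
  fun _ hw => Subgroup.subset_closure (Or.inl hw)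

theorem conj_mem_Fs {X W : L → Subgroup G} {r s : L} {g u : G} (hg : g ∈ X (r - s)) (hu : u ∈ W s) :
    g * u * g⁻¹ ∈ Fs X W r s := Subgroup.subset_closure (Or.inr ⟨g, hg, u, hu, rfl⟩)

theorem Ws_le (X W : L → Subgroup G) (r s : L) : W s ≤ Fs X W r s := fun u hu => by
  have := conj_mem_Fs (X := X) (r := r) (one_mem (X (r - s))) hu
  rwa [one_mul, inv_one, mul_one] at this

theorem Es_le_Fs (h : PreY t B Φ X W Y) {r s : L} (T : Tri B Φ r s) : Es h T ≤ Fs X W r s := by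
  rintro _ ⟨x, hx, y, hy, rfl⟩
  exact mul_mem (Wr_le X W r s (h.XW r T.hr hx)) (Ws_le X W r s (h.XW s T.hs hy))

/-- `E` centralises the generators -/
theorem gn_comm_Es (h : PreY t B Φ X W Y) {r s : L} (T : Tri B Φ r s) {e f : G} (he : e ∈ Es h T)
    (hf : f ∈ Gn X W r s) : f * e = e * f := by
  rcases hf with hf | ⟨g, hg, u, hu, rfl⟩
  · exact Es_comm_r h T he hf
  · have h1 := Es_conj h T (inv_mem hg) he
    rw [inv_inv] at h1
    have h2 := Es_comm_s h T h1 hu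
    calc g * u * g⁻¹ * e = g * (u * (g⁻¹ * e * g)) * g⁻¹ := by group
      _ = g * ((g⁻¹ * e * g) * u) * g⁻¹ := by rw [h2]
      _ = e * (g * u * g⁻¹) := by group

theorem fs_comm_Es (h : PreY t B Φ X W Y) {r s : L} (T : Tri B Φ r s) {e f : G} (he : e ∈ Es h T)
    (hf : f ∈ Fs X W r s) : f * e = e * f := by
  have : Fs X W r s ≤ Subgroup.centralizer {e} := by
    rw [Fs, Subgroup.closure_le]
    intro f hf
    exact Subgroup.mem_centralizer_singleton_iff.2 (gn_comm_Es h T he hf)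
  exact Subgroup.mem_centralizer_singleton_iff.1 (this hf)

/-- commutators of generators lie in `E` -/
theorem gn_comm (h : PreY t B Φ X W Y) {r s : L} (T : Tri B Φ r s) {f f' : G}
    (hf : f ∈ Gn X W r s) (hf' : f' ∈ Gn X W r s) : f * f' * f⁻¹ * f'⁻¹ ∈ Es h T := by
  -- `v ∈ W r` and `g u g⁻¹`
  have key : ∀ v ∈ W r, ∀ g ∈ X (r - s), ∀ u ∈ W s,
      v * (g * u * g⁻¹) * v⁻¹ * (g * u * g⁻¹)⁻¹ ∈ Es h T := by
    intro v hv g hg u hu
    have c1 : v * g = g * v := h.WX r T.hr _ T.hd (by rw [T.dr]; norm_num) v hv g hg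
    have c2 : g⁻¹ * v = v * g⁻¹ := by
      have : Commute v g := c1
      exact this.symm.inv_left.eq
    have e1 : v * (g * u * g⁻¹) * v⁻¹ * (g * u * g⁻¹)⁻¹ = g * (v * u * v⁻¹ * u⁻¹) * g⁻¹ := by
      calc v * (g * u * g⁻¹) * v⁻¹ * (g * u * g⁻¹)⁻¹
          = (v * g) * u * (g⁻¹ * v⁻¹) * g * u⁻¹ * g⁻¹ := by group
        _ = (g * v) * u * (g⁻¹ * v⁻¹) * g * u⁻¹ * g⁻¹ := by rw [c1]
        _ = g * v * u * ((v * g)⁻¹ * g) * u⁻¹ * g⁻¹ := by group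
        _ = g * v * u * ((g * v)⁻¹ * g) * u⁻¹ * g⁻¹ := by rw [c1]
        _ = _ := by group
    rw [e1]
    exact Es_conj h T hg (comm_mem h T.hr T.hs T.rs hv hu)
  rcases hf with hf | ⟨g, hg, u, hu, rfl⟩
  · rcases hf' with hf' | ⟨g, hg, u, hu, rfl⟩
    · have h1 := h.Wab r T.hr f hf f' hf'
      have h2 : f * f' * f⁻¹ * f'⁻¹ = 1 := by rw [h1]; group
      rw [h2]; exact one_mem _
    · exact key f hf g hg u hu
  · rcases hf' with hf' | ⟨g', hg', u', hu', rfl⟩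
    · have h1 := inv_mem (key f' hf' g hg u hu)
      have h2 : (f' * (g * u * g⁻¹) * f'⁻¹ * (g * u * g⁻¹)⁻¹)⁻¹ =
          (g * u * g⁻¹) * f' * (g * u * g⁻¹)⁻¹ * f'⁻¹ := by group
      rwa [h2] at h1
    · -- conjugate by `g'`
      obtain ⟨k, hk⟩ : ∃ k, k = g'⁻¹ * g := ⟨_, rfl⟩
      have hkX : k ∈ X (r - s) := by rw [hk]; exact mul_mem (inv_mem hg') hg
      have h1 : (k * u * k⁻¹) * u' * (k * u * k⁻¹)⁻¹ * u'⁻¹ ∈ Es h T := by
        by_cases hk1 : k = 1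
        · have h2 := h.Wab s T.hs u hu u' hu'
          have h3 : (k * u * k⁻¹) * u' * (k * u * k⁻¹)⁻¹ * u'⁻¹ = 1 := by
            rw [hk1]
            calc 1 * u * 1⁻¹ * u' * (1 * u * 1⁻¹)⁻¹ * u'⁻¹ = (u * u') * u⁻¹ * u'⁻¹ := by group
              _ = 1 := by rw [h2]; group
          rw [h3]; exact one_mem _
        · obtain ⟨q, hq, hqw⟩ := h.tri r T.hr s T.hs T.rs k hkX hk1
          have h2 := (hqw u).1 hu
          obtain ⟨w, hw⟩ : ∃ w, w = q⁻¹ * (k * u * k⁻¹) * q := ⟨_, rfl⟩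
          rw [← hw] at h2
          have h3 : k * u * k⁻¹ = q * w * q⁻¹ := by rw [hw]; group
          have c1 : u' * q = q * u' := h.WX s T.hs _ T.hd' (by rw [T.ds']; norm_num) u' hu' q hq
          have e1 : (k * u * k⁻¹) * u' * (k * u * k⁻¹)⁻¹ * u'⁻¹ =
              q * (w * u' * w⁻¹ * u'⁻¹) * q⁻¹ := by
            rw [h3]
            calc q * w * q⁻¹ * u' * (q * w * q⁻¹)⁻¹ * u'⁻¹
                = q * w * (q⁻¹ * (u' * q)) * w⁻¹ * (u' * q)⁻¹ := by group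
              _ = q * w * (q⁻¹ * (q * u')) * w⁻¹ * (q * u')⁻¹ := by rw [c1]
              _ = _ := by group
          rw [e1]
          exact Es_conj' h T hq (comm_mem h T.hr T.hs T.rs h2 hu')
      have h2 := Es_conj h T hg' h1
      have e2 : g' * ((k * u * k⁻¹) * u' * (k * u * k⁻¹)⁻¹ * u'⁻¹) * g'⁻¹ =
          (g * u * g⁻¹) * (g' * u' * g'⁻¹) * (g * u * g⁻¹)⁻¹ * (g' * u' * g'⁻¹)⁻¹ := by
        rw [hk]; group
      rwa [e2] at h2

/-- abstract: a group generated by elements commuting modulo a central subgroup -/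
theorem closure_comm (E : Subgroup G) (S : Set G) (hE : ∀ f ∈ Subgroup.closure S, ∀ e ∈ E, f * e = e * f)
    (hS : ∀ f ∈ S, ∀ f' ∈ S, f * f' * f⁻¹ * f'⁻¹ ∈ E) {f f' : G} (hf : f ∈ Subgroup.closure S)
    (hf' : f' ∈ Subgroup.closure S) : f * f' * f⁻¹ * f'⁻¹ ∈ E := by
  have step : ∀ a b : G, ∀ g ∈ Subgroup.closure S, a * g * a⁻¹ * g⁻¹ ∈ E → a ∈ Subgroup.closure S →
      b * g * b⁻¹ * g⁻¹ ∈ E → (a * b) * g * (a * b)⁻¹ * g⁻¹ ∈ E := by
    intro a b g hg ha hac hb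
    have h1 : (a * b) * g * (a * b)⁻¹ * g⁻¹ = (a * (b * g * b⁻¹ * g⁻¹)) * g * a⁻¹ * g⁻¹ := by group
    rw [h1, hE a hac _ hb]
    have h2 : b * g * b⁻¹ * g⁻¹ * a * g * a⁻¹ * g⁻¹ = (b * g * b⁻¹ * g⁻¹) * (a * g * a⁻¹ * g⁻¹) := by
      group
    rw [h2]
    exact mul_mem hb ha
  have stepi : ∀ a g : G, a ∈ Subgroup.closure S → a * g * a⁻¹ * g⁻¹ ∈ E →
      a⁻¹ * g * a⁻¹⁻¹ * g⁻¹ ∈ E := by
    intro a g ha h1
    have h2 : a⁻¹ * g * a⁻¹⁻¹ * g⁻¹ = a⁻¹ * (a * g * a⁻¹ * g⁻¹)⁻¹ * a := by group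
    have h3 := hE a⁻¹ (inv_mem ha) _ (inv_mem h1)
    rw [h2, h3, inv_mul_cancel_right]
    exact inv_mem h1
  have symm : ∀ a b : G, a * b * a⁻¹ * b⁻¹ ∈ E → b * a * b⁻¹ * a⁻¹ ∈ E := by
    intro a b h1
    have h2 : b * a * b⁻¹ * a⁻¹ = (a * b * a⁻¹ * b⁻¹)⁻¹ := by group
    rw [h2]; exact inv_mem h1
  have first : ∀ g ∈ S, ∀ f ∈ Subgroup.closure S, f * g * f⁻¹ * g⁻¹ ∈ E := by
    intro g hg f hf
    induction hf using Subgroup.closure_induction with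
    | mem x hx => exact hS x hx g hg
    | one =>
      have : (1 : G) * g * 1⁻¹ * g⁻¹ = 1 := by group
      rw [this]; exact one_mem _
    | mul x y hx hy h1 h2 => exact step x y g (Subgroup.subset_closure hg) h1 hx h2
    | inv x hx h1 => exact stepi x g hx h1
  induction hf' using Subgroup.closure_induction with
  | mem x hx => exact first x hx f hf
  | one =>
    have : f * 1 * f⁻¹ * 1⁻¹ = 1 := by group
    rw [this]; exact one_mem _
  | mul x y hx hy h1 h2 => exact symm _ _ (step x y f hf (symm _ _ h1) hx (symm _ _ h2))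
  | inv x hx h1 => exact symm _ _ (stepi x f hx (symm _ _ h1))

theorem fs_comm (h : PreY t B Φ X W Y) {r s : L} (T : Tri B Φ r s) {f f' : G}
    (hf : f ∈ Fs X W r s) (hf' : f' ∈ Fs X W r s) : f * f' * f⁻¹ * f'⁻¹ ∈ Es h T :=
  closure_comm (Es h T) (Gn X W r s) (fun _ hf _ he => fs_comm_Es h T he hf)
    (fun _ hf _ hf' => gn_comm h T hf hf') hf hf'

/-- `F` centralises `Y r s` -/
theorem fs_comm_Y (h : PreY t B Φ X W Y) {r s : L} (T : Tri B Φ r s) {f k : G}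
    (hf : f ∈ Fs X W r s) (hk : k ∈ Y r s) : f * k = k * f := by
  have : Fs X W r s ≤ Subgroup.centralizer {k} := by
    rw [Fs, Subgroup.closure_le]
    rintro f (hf | ⟨g, hg, u, hu, rfl⟩)
    · exact Subgroup.mem_centralizer_singleton_iff.2 ((h.YW r T.hr s T.hs k hk).1 f hf)
    · refine Subgroup.mem_centralizer_singleton_iff.2 ?_
      have h1 := h.Yd r T.hr s T.hs T.rs k hk g hg u hu
      calc g * u * g⁻¹ * k = g * (u * (g⁻¹ * k * g)) * g⁻¹ := by group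
        _ = g * ((g⁻¹ * k * g) * u) * g⁻¹ := by rw [h1]
        _ = k * (g * u * g⁻¹) := by group
  exact Subgroup.mem_centralizer_singleton_iff.1 (this hf)

/-- elements of `F` commuting with `t` lie in `⟨t⟩ E` -/
theorem ker_form (h : PreY t B Φ X W Y) {r s : L} (T : Tri B Φ r s) {f : G}
    (hf : f ∈ Fs X W r s) (hft : f * t = t * f) : f ∈ Es h T ∨ ∃ e ∈ Es h T, f = t * e := by
  obtain ⟨x, hx, y, hy, h1⟩ := h.H1 r T.hr s T.hs T.rs f hft (fun k hk => fs_comm_Y h T hf hk)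
  rcases h1 with h1 | h1
  · exact Or.inl ⟨x, hx, y, hy, h1⟩
  · exact Or.inr ⟨x * y, ⟨x, hx, y, hy, rfl⟩, h1⟩

end Cfsg.Agent.OddHalf.SL.Core

end

-- merged: Cfsg.Agent.OddHalf.SL.One
section

/-!
# `[W r, W s] = 1` for `(r, s) = 1` and `q > 2` (helper186)

* `fix_mem`, `t_not_mem`: `t ∉ F` in the presence of the torus element `δ`;
* `conj_form`: `g u g⁻¹ ∈ u W r X s`; `comm_one`: `[W r, W s] = 1`;
* `conj_form'`: `g u g⁻¹ ∈ u W r`; `sq_one`: `W r` is elementary abelian.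
-/

set_option autoImplicit false

namespace Cfsg.Agent.OddHalf.SL.One

open Cfsg.Agent.OddHalf.SL.Defs Cfsg.Agent.OddHalf.SL.General Cfsg.Agent.OddHalf.SL.Core

variable {L : Type*} [AddCommGroup L] {G : Type*} [Group G]

/-- `F = ⟨S⟩`, `F / E` abelian, `F / E = [F / E, δ]`: elements commuting with `δ` lie in `E`. -/
theorem fix_mem [Finite G] (E F : Subgroup G) (S : Set G) (hF : F = Subgroup.closure S)
    (hEF : E ≤ F) (hEc : ∀ f ∈ F, ∀ e ∈ E, f * e = e * f)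
    (hFF : ∀ f ∈ F, ∀ g ∈ F, f * g * f⁻¹ * g⁻¹ ∈ E) (δ : G) (hδF : ∀ f ∈ F, δ * f * δ⁻¹ ∈ F)
    (hδE : ∀ e ∈ E, δ * e * δ⁻¹ ∈ E) (hgen : ∀ s ∈ S, ∃ s' ∈ F, s = s' * (δ * s'⁻¹ * δ⁻¹))
    {f : G} (hf : f ∈ F) (hfδ : δ * f = f * δ) : f ∈ E := by
  classical
  set N : Subgroup F := E.subgroupOf F with hN
  have hNn : N.Normal := ⟨by
    rintro ⟨n, hn⟩ hn' ⟨g, hg⟩
    rw [Subgroup.mem_subgroupOf] at hn' ⊢
    show g * n * g⁻¹ ∈ E
    rw [hEc g hg n hn', mul_inv_cancel_right]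
    exact hn'⟩
  have hm : ∀ f : F, (f : G) * (δ * (f : G)⁻¹ * δ⁻¹) ∈ F := fun f =>
    mul_mem f.2 (hδF _ (inv_mem f.2))
  let θ : F →* F ⧸ N := MonoidHom.mk' (fun f => QuotientGroup.mk ⟨(f : G) * (δ * (f : G)⁻¹ * δ⁻¹), hm f⟩) (by
    intro f g
    rw [← QuotientGroup.mk_mul, QuotientGroup.eq, Subgroup.mem_subgroupOf]
    show ((((f * g : F) : G)) * (δ * ((f * g : F) : G)⁻¹ * δ⁻¹))⁻¹ *
      (((f : G) * (δ * (f : G)⁻¹ * δ⁻¹)) * ((g : G) * (δ * (g : G)⁻¹ * δ⁻¹))) ∈ E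
    have h1 := hFF (δ * (f : G)⁻¹ * δ⁻¹)⁻¹ (inv_mem (hδF _ (inv_mem f.2)))
      ((g : G) * (δ * (g : G)⁻¹ * δ⁻¹))⁻¹ (inv_mem (hm g))
    have e : ((((f * g : F) : G)) * (δ * ((f * g : F) : G)⁻¹ * δ⁻¹))⁻¹ *
      (((f : G) * (δ * (f : G)⁻¹ * δ⁻¹)) * ((g : G) * (δ * (g : G)⁻¹ * δ⁻¹))) =
      (δ * (f : G)⁻¹ * δ⁻¹)⁻¹ * ((g : G) * (δ * (g : G)⁻¹ * δ⁻¹))⁻¹ *
      (δ * (f : G)⁻¹ * δ⁻¹)⁻¹⁻¹ * ((g : G) * (δ * (g : G)⁻¹ * δ⁻¹))⁻¹⁻¹ := by
      rw [Subgroup.coe_mul]; group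
    rw [e]; exact h1)
  have hθ : ∀ f : F, θ f = QuotientGroup.mk ⟨(f : G) * (δ * (f : G)⁻¹ * δ⁻¹), hm f⟩ := fun _ => rfl
  have hsurj : Function.Surjective θ := by
    have key : ∀ f (hf : f ∈ F), (QuotientGroup.mk (⟨f, hf⟩ : F) : F ⧸ N) ∈ θ.range := by
      subst hF
      intro f hf
      induction hf using Subgroup.closure_induction with
      | mem x hx =>
        obtain ⟨s', hs', he⟩ := hgen x hx
        refine ⟨⟨s', hs'⟩, ?_⟩
        rw [hθ]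
        congr 1
        exact Subtype.ext he.symm
      | one => exact one_mem _
      | mul x y hx hy h1 h2 =>
        have : (QuotientGroup.mk (⟨x * y, mul_mem hx hy⟩ : Subgroup.closure S) : _ ⧸ N) =
          QuotientGroup.mk ⟨x, hx⟩ * QuotientGroup.mk ⟨y, hy⟩ := rfl
        rw [this]; exact mul_mem h1 h2
      | inv x hx h1 =>
        have : (QuotientGroup.mk (⟨x⁻¹, inv_mem hx⟩ : Subgroup.closure S) : _ ⧸ N) =
          (QuotientGroup.mk ⟨x, hx⟩)⁻¹ := rfl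
        rw [this]; exact inv_mem h1
    intro q
    obtain ⟨⟨f, hf⟩, rfl⟩ := QuotientGroup.mk_surjective q
    exact key f hf
  have hNk : N ≤ θ.ker := by
    rintro ⟨e, he⟩ he'
    rw [Subgroup.mem_subgroupOf] at he'
    rw [MonoidHom.mem_ker, hθ, QuotientGroup.eq_one_iff, Subgroup.mem_subgroupOf]
    exact mul_mem he' (hδE _ (inv_mem he'))
  have hidx : θ.ker.index = N.index := by
    rw [Subgroup.index_eq_card, Subgroup.index_eq_card]
    exact Nat.card_congr (QuotientGroup.quotientKerEquivOfSurjective θ hsurj).toEquiv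
  have hcard : Nat.card θ.ker ≤ Nat.card N := by
    have h1 := θ.ker.card_mul_index
    have h2 := N.card_mul_index
    have h3 : N.index ≠ 0 := Subgroup.index_ne_zero_of_finite
    rw [hidx, ← h2] at h1
    exact (Nat.eq_of_mul_eq_mul_right (Nat.pos_of_ne_zero h3) h1).le
  have hker := Subgroup.eq_of_le_of_card_ge hNk hcard
  have hfk : (⟨f, hf⟩ : F) ∈ θ.ker := by
    rw [MonoidHom.mem_ker, hθ, QuotientGroup.eq_one_iff, Subgroup.mem_subgroupOf]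
    show f * (δ * f⁻¹ * δ⁻¹) ∈ E
    have : f * (δ * f⁻¹ * δ⁻¹) = 1 := by
      have h1 : δ * f⁻¹ = f⁻¹ * δ := by
        have : Commute δ f := hfδ
        exact this.inv_right.eq
      rw [h1]; group
    rw [this]; exact one_mem _
  rw [← hker, Subgroup.mem_subgroupOf] at hfk
  exact hfk

/-- `A = [A, δ]` if `δ` acts without fixed points -/
theorem surj_of_fpf [Finite G] (A : Subgroup G) (δ : G)
    (hδ : ∀ w ∈ A, δ * w * δ⁻¹ ∈ A) (hfix : ∀ w ∈ A, δ * w = w * δ → w = 1) :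
    ∀ w ∈ A, ∃ w' ∈ A, w = w' * (δ * w'⁻¹ * δ⁻¹) := by
  let F : A → A := fun w => ⟨w * (δ * (w : G)⁻¹ * δ⁻¹), mul_mem w.2 (hδ _ (inv_mem w.2))⟩
  have hinj : Function.Injective F := by
    intro a b hab
    have h1 : (a : G) * (δ * (a : G)⁻¹ * δ⁻¹) = b * (δ * (b : G)⁻¹ * δ⁻¹) := congrArg Subtype.val hab
    have hma := hδ _ (inv_mem a.2)
    have hmb := hδ _ b.2
    have h2 : (b : G)⁻¹ * a = (δ * (b : G)⁻¹ * δ⁻¹) * (δ * (a : G)⁻¹ * δ⁻¹)⁻¹ := by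
      calc (b : G)⁻¹ * a = (b : G)⁻¹ * ((a : G) * (δ * (a : G)⁻¹ * δ⁻¹)) * (δ * (a : G)⁻¹ * δ⁻¹)⁻¹ := by
            group
        _ = (b : G)⁻¹ * (b * (δ * (b : G)⁻¹ * δ⁻¹)) * (δ * (a : G)⁻¹ * δ⁻¹)⁻¹ := by rw [h1]
        _ = _ := by group
    have h3 : (δ * (b : G)⁻¹ * δ⁻¹) * (δ * (a : G)⁻¹ * δ⁻¹)⁻¹ = δ * ((b : G)⁻¹ * a) * δ⁻¹ := by group
    have h4 : δ * ((b : G)⁻¹ * a) = ((b : G)⁻¹ * a) * δ := by
      rw [h3] at h2
      nth_rw 2 [h2]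
      group
    have h5 := hfix _ (mul_mem (inv_mem b.2) a.2) h4
    ext
    exact (inv_mul_eq_one.1 h5).symm
  have hs := Finite.injective_iff_surjective.1 hinj
  intro w hw
  obtain ⟨w', hw'⟩ := hs ⟨w, hw⟩
  exact ⟨w', w'.2, (congrArg Subtype.val hw').symm⟩

variable {t : G} {B : L → L → ℤ} {Φ : Set L} {X W : L → Subgroup G} {Y : L → L → Set G}

/-- `bt` and automorphisms commuting with `t` -/
theorem bt_conj {t k w : G} (hk : k * t = t * k) : bt t (k * w * k⁻¹) = k * bt t w * k⁻¹ := by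
  have hk' : k⁻¹ * t = t * k⁻¹ := by
    have : Commute k t := hk
    exact this.inv_left.eq
  unfold bt
  calc (k * w * k⁻¹)⁻¹ * (t * (k * w * k⁻¹) * t) = k * w⁻¹ * k⁻¹ * (t * k) * w * (k⁻¹ * t) := by group
    _ = k * w⁻¹ * k⁻¹ * (k * t) * w * (t * k⁻¹) := by rw [hk, hk']
    _ = _ := by group

theorem bt_fix {t δ w : G} (hδt : δ * t = t * δ) (h : δ * w = w * δ) : δ * bt t w = bt t w * δ := by
  have h1 : δ * w * δ⁻¹ = w := comm_conj h
  have h2 := bt_conj (t := t) (k := δ) (w := w) hδt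
  rw [h1] at h2
  nth_rw 2 [h2]
  group

/-- the torus element acts without fixed points on `W r` -/
theorem W_fpf (h : PreY t B Φ X W Y) {r : L} (hr : r ∈ Φ) {δ : G} (hδt : δ * t = t * δ)
    (hX : ∀ x ∈ X r, δ * x = x * δ → x = 1) {w : G} (hw : w ∈ W r) (hwδ : δ * w = w * δ) : w = 1 := by
  have h1 := hX _ (bt_mem h hr hw) (bt_fix hδt hwδ)
  exact hX w (mem_X_of_bt h hr hw h1) hwδ

/-- elements of `X r` are mapped into `X r` -/
theorem X_conj (h : PreY t B Φ X W Y) {r : L} (hr : r ∈ Φ) {δ : G} (hδt : δ * t = t * δ)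
    (hW : ∀ w ∈ W r, δ * w * δ⁻¹ ∈ W r) {x : G} (hx : x ∈ X r) : δ * x * δ⁻¹ ∈ X r := by
  apply h.cent r hr _ (hW x (h.XW r hr hx))
  have h1 : Commute δ t := hδt
  have h2 : Commute t x := h.tX r hr x hx
  exact ((h1.symm.mul_right h2).mul_right h1.symm.inv_right).eq

theorem t_not_mem [Finite G] (h : PreY t B Φ X W Y) {r s : L} (T : Tri B Φ r s) {δ : G}
    (hδt : δ * t = t * δ) (hδd : ∀ x ∈ X (r - s), δ * x = x * δ)
    (hWr : ∀ w ∈ W r, δ * w * δ⁻¹ ∈ W r) (hWs : ∀ w ∈ W s, δ * w * δ⁻¹ ∈ W s)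
    (hXr : ∀ x ∈ X r, δ * x = x * δ → x = 1) (hXs : ∀ x ∈ X s, δ * x = x * δ → x = 1) :
    t ∉ Fs X W r s := by
  intro ht
  have h1 := surj_of_fpf (W r) δ hWr (fun w hw hwδ => W_fpf h T.hr hδt hXr hw hwδ)
  have h2 := surj_of_fpf (W s) δ hWs (fun w hw hwδ => W_fpf h T.hs hδt hXs hw hwδ)
  have hδF : ∀ f ∈ Fs X W r s, δ * f * δ⁻¹ ∈ Fs X W r s := by
    intro f hf
    induction hf using Subgroup.closure_induction with
    | mem x hx =>
      rcases hx with hx | ⟨g, hg, u, hu, rfl⟩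
      · exact Wr_le X W r s (hWr x hx)
      · have c1 : Commute δ g := hδd g hg
        have e : δ * (g * u * g⁻¹) * δ⁻¹ = g * (δ * u * δ⁻¹) * g⁻¹ := by
          calc δ * (g * u * g⁻¹) * δ⁻¹ = (δ * g) * u * (g⁻¹ * δ⁻¹) := by group
            _ = (g * δ) * u * (δ⁻¹ * g⁻¹) := by rw [c1.eq, c1.inv_inv.eq]
            _ = _ := by group
        rw [e]; exact conj_mem_Fs hg (hWs u hu)
    | one =>
      have : δ * 1 * δ⁻¹ = 1 := by group
      rw [this]; exact one_mem _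
    | mul x y _ _ h3 h4 =>
      have : δ * (x * y) * δ⁻¹ = (δ * x * δ⁻¹) * (δ * y * δ⁻¹) := by group
      rw [this]; exact mul_mem h3 h4
    | inv x _ h3 =>
      have : δ * x⁻¹ * δ⁻¹ = (δ * x * δ⁻¹)⁻¹ := by group
      rw [this]; exact inv_mem h3
  have hδE : ∀ e ∈ Es h T, δ * e * δ⁻¹ ∈ Es h T := by
    rintro _ ⟨x, hx, y, hy, rfl⟩
    have : δ * (x * y) * δ⁻¹ = (δ * x * δ⁻¹) * (δ * y * δ⁻¹) := by group
    rw [this]
    exact ⟨_, X_conj h T.hr hδt hWr hx, _, X_conj h T.hs hδt hWs hy, rfl⟩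
  have hgen : ∀ k ∈ Gn X W r s, ∃ k' ∈ Fs X W r s, k = k' * (δ * k'⁻¹ * δ⁻¹) := by
    rintro k (hk | ⟨g, hg, u, hu, rfl⟩)
    · obtain ⟨w', hw', he⟩ := h1 k hk
      exact ⟨w', Wr_le X W r s hw', he⟩
    · obtain ⟨u', hu', he⟩ := h2 u hu
      refine ⟨g * u' * g⁻¹, conj_mem_Fs hg hu', ?_⟩
      have c1 : Commute δ g := hδd g hg
      calc g * u * g⁻¹ = g * (u' * (δ * u'⁻¹ * δ⁻¹)) * g⁻¹ := by rw [← he]
        _ = g * u' * g⁻¹ * ((g * δ) * u'⁻¹ * (δ⁻¹ * g⁻¹)) := by group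
        _ = g * u' * g⁻¹ * ((δ * g) * u'⁻¹ * (g⁻¹ * δ⁻¹)) := by rw [c1.eq, c1.inv_inv.eq]
        _ = _ := by group
  have h3 := fix_mem (Es h T) (Fs X W r s) (Gn X W r s) rfl (Es_le_Fs h T)
    (fun _ hf _ he => fs_comm_Es h T he hf) (fun _ hf _ hf' => fs_comm h T hf hf') δ hδF hδE hgen ht hδt
  obtain ⟨x, hx, y, hy, he⟩ := h3
  exact sup_nt h T.hr T.hs hx hy he.symm

/-- `g u g⁻¹ ∈ u W r X s` for `g ∈ X (r - s)`, `u ∈ W s` -/
theorem conj_form (h : PreY t B Φ X W Y) {r s : L} (T : Tri B Φ r s) (hN : t ∉ Fs X W r s) {g u : G}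
    (hg : g ∈ X (r - s)) (hu : u ∈ W s) :
    ∃ w ∈ W r, ∃ y ∈ X s, g * u * g⁻¹ = u * w * y ∧ bt t w = g * bt t u * g⁻¹ * (bt t u)⁻¹ := by
  obtain ⟨y0, hy0⟩ : ∃ y0, y0 = bt t u := ⟨_, rfl⟩
  have hy0X : y0 ∈ X s := by rw [hy0]; exact bt_mem h T.hs hu
  have hx' := conj_X h T hg hy0X
  obtain ⟨x', hx'e⟩ : ∃ x', x' = g * y0 * g⁻¹ * y0⁻¹ := ⟨_, rfl⟩
  rw [← hx'e] at hx'
  obtain ⟨w', hw', hbw⟩ := h.surj r T.hr x' hx'
  have hbw' : bt t w' = x' := hbw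
  obtain ⟨k, hk⟩ : ∃ k, k = w'⁻¹ * u⁻¹ * (g * u * g⁻¹) := ⟨_, rfl⟩
  have hgt : g * t = t * g := (h.tX _ T.hd g hg).symm
  have hkF : k ∈ Fs X W r s := by
    rw [hk]
    exact mul_mem (mul_mem (inv_mem (Wr_le X W r s hw')) (inv_mem (Ws_le X W r s hu)))
      (conj_mem_Fs hg hu)
  have hti := ti h
  have ti' : ∀ x : G, t * x⁻¹ * t = (t * x * t)⁻¹ := by
    intro x; rw [mul_inv_rev, mul_inv_rev, hti]; group
  have hxE : x' ∈ Es h T := Es_left h T hx'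
  have hyE : y0 ∈ Es h T := Es_right h T hy0X
  have hkt : k * t = t * k := by
    refine t_comm_of h.tt (c' := (w' * x')⁻¹ * (u * y0)⁻¹ * ((g * u * g⁻¹) * (x' * y0))) ?_ ?_
    · have e1 : t * (g * u * g⁻¹) * t = (g * u * g⁻¹) * (x' * y0) := by
        rw [tw, bt_conj hgt, ← hy0, hx'e]; group
      calc t * k * t = (t * w'⁻¹ * t) * (t * u⁻¹ * t) * (t * (g * u * g⁻¹) * t) := by
            rw [hk]
            calc t * (w'⁻¹ * u⁻¹ * (g * u * g⁻¹)) * t = t * w'⁻¹ * u⁻¹ * (g * u * g⁻¹) * t := by group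
              _ = t * w'⁻¹ * (t * t) * u⁻¹ * (t * t) * (g * u * g⁻¹) * t := by rw [h.tt]; group
              _ = _ := by group
        _ = (w' * x')⁻¹ * (u * y0)⁻¹ * ((g * u * g⁻¹) * (x' * y0)) := by
            rw [ti', ti', tw t w', tw t u, hbw', ← hy0, e1]
    · -- `x'`, `y0` are central in `F`
      have hw'F := Wr_le X W r s hw'
      have huF := Ws_le X W r s hu
      have hgF := conj_mem_Fs hg hu
      have c1 := fs_comm_Es h T (mul_mem hxE hyE) (mul_mem (mul_mem (inv_mem hw'F) (inv_mem huF)) hgF)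
      have c2 := fs_comm_Es h T hxE (inv_mem hw'F)
      have c3 := fs_comm_Es h T hyE (inv_mem huF)
      have c4 : x' * y0 = y0 * x' := XX h T.hr T.hs (by rw [T.rs]; norm_num) hx' hy0X
      have c5 : Commute x' w'⁻¹ := c2.symm
      have c6 : Commute y0 u⁻¹ := c3.symm
      have c7 : Commute y0 w'⁻¹ := (fs_comm_Es h T hyE (inv_mem hw'F)).symm
      rw [mul_inv_rev, mul_inv_rev, hk]
      calc x'⁻¹ * w'⁻¹ * (y0⁻¹ * u⁻¹) * (g * u * g⁻¹ * (x' * y0))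
          = x'⁻¹ * (w'⁻¹ * y0⁻¹) * u⁻¹ * (g * u * g⁻¹) * (x' * y0) := by group
        _ = x'⁻¹ * (y0⁻¹ * w'⁻¹) * u⁻¹ * (g * u * g⁻¹) * (x' * y0) := by rw [c7.inv_left.eq]
        _ = x'⁻¹ * y0⁻¹ * ((w'⁻¹ * u⁻¹ * (g * u * g⁻¹)) * (x' * y0)) := by group
        _ = x'⁻¹ * y0⁻¹ * ((x' * y0) * (w'⁻¹ * u⁻¹ * (g * u * g⁻¹))) := by rw [c1]
        _ = (y0 * x')⁻¹ * (x' * y0) * (w'⁻¹ * u⁻¹ * (g * u * g⁻¹)) := by group
        _ = w'⁻¹ * u⁻¹ * (g * u * g⁻¹) := by rw [c4, inv_mul_cancel, one_mul]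
  rcases ker_form h T hkF hkt with h1 | ⟨e, he, h1⟩
  · obtain ⟨x1, hx1, y1, hy1, h2⟩ := h1
    refine ⟨w' * x1, mul_mem hw' (h.XW r T.hr hx1), y1, hy1, ?_, ?_⟩
    · have : g * u * g⁻¹ = u * w' * k := by rw [hk]; group
      rw [this, h2]; group
    · rw [bt_hom h T.hr hw' (h.XW r T.hr hx1), bt_of_comm h.tt (h.tX r T.hr x1 hx1), mul_one, hbw',
        hx'e, hy0]
  · exfalso
    apply hN
    have : t = k * e⁻¹ := by rw [h1]; group
    rw [this]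
    exact mul_mem hkF (inv_mem (Es_le_Fs h T he))

/-- `X (r - s)` centralises `[v, u]` -/
theorem comm_d (h : PreY t B Φ X W Y) {r s : L} (T : Tri B Φ r s) (hN : t ∉ Fs X W r s) {g v u : G}
    (hg : g ∈ X (r - s)) (hv : v ∈ W r) (hu : u ∈ W s) :
    g * (v * u * v⁻¹ * u⁻¹) = (v * u * v⁻¹ * u⁻¹) * g := by
  obtain ⟨w, hw, y, hy, h1, -⟩ := conj_form h T hN hg hu
  have cvg : Commute v g := h.WX r T.hr _ T.hd (by rw [T.dr]; norm_num) v hv g hg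
  have cvw : Commute v w := h.Wab r T.hr v hv w hw
  have cvy : Commute v y := h.WX r T.hr s T.hs (by rw [T.sr]; norm_num) v hv y hy
  have e1 : g * (v * u * v⁻¹ * u⁻¹) * g⁻¹ = v * u * v⁻¹ * u⁻¹ := by
    calc g * (v * u * v⁻¹ * u⁻¹) * g⁻¹ = (g * v) * u * (v⁻¹ * (g⁻¹ * g)) * u⁻¹ * g⁻¹ := by group
      _ = (v * g) * u * (v⁻¹ * g⁻¹) * g * u⁻¹ * g⁻¹ := by rw [cvg.eq]; group
      _ = (v * g) * u * (g⁻¹ * v⁻¹) * g * u⁻¹ * g⁻¹ := by rw [cvg.inv_inv.eq]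
      _ = v * (g * u * g⁻¹) * v⁻¹ * (g * u * g⁻¹)⁻¹ := by group
      _ = v * u * (w * y) * v⁻¹ * (u * (w * y))⁻¹ := by rw [h1]; group
      _ = v * u * ((w * y) * v⁻¹) * (u * (w * y))⁻¹ := by group
      _ = v * u * (v⁻¹ * (w * y)) * (u * (w * y))⁻¹ := by
          rw [((cvw.mul_right cvy).inv_left).eq]
      _ = _ := by group
  calc g * (v * u * v⁻¹ * u⁻¹) = (g * (v * u * v⁻¹ * u⁻¹) * g⁻¹) * g := by group
    _ = _ := by rw [e1]

theorem comm_mem_r (h : PreY t B Φ X W Y) {r s : L} (T : Tri B Φ r s) (hN : t ∉ Fs X W r s) {v u : G}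
    (hv : v ∈ W r) (hu : u ∈ W s) : v * u * v⁻¹ * u⁻¹ ∈ X r := by
  obtain ⟨x, hx, y, hy, h1⟩ := comm_mem h T.hr T.hs T.rs hv hu
  obtain ⟨g, hg, hg1⟩ := exists_ne h T.hd
  have h2 := comm_d h T hN hg hv hu
  rw [h1] at h2 ⊢
  have c1 : Commute g x := XX h T.hd T.hr (by rw [T.dr]; norm_num) hg hx
  have h3 : g * y = y * g := by
    have h4 : x * (g * y) = x * (y * g) := by
      calc x * (g * y) = (x * g) * y := by group
        _ = g * (x * y) := by rw [← c1.eq]; group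
        _ = x * (y * g) := by rw [h2]; group
    exact mul_left_cancel h4
  rcases h.Xnd _ T.hd _ T.hs T.ds g hg y hy h3 with h4 | h4
  · exact absurd h4 hg1
  · rw [h4, mul_one]; exact hx

/-- (3): `[W r, W s] = 1` for `(r, s) = 1` -/
theorem comm_one (h : PreY t B Φ X W Y) {r s : L} (T : Tri B Φ r s) (hN : t ∉ Fs X W r s)
    (hN' : t ∉ Fs X W s r) {v u : G} (hv : v ∈ W r) (hu : u ∈ W s) : v * u = u * v := by
  have h1 := comm_mem_r h T hN hv hu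
  have h2 := inv_mem (comm_mem_r h T.symm hN' hu hv)
  have e : (u * v * u⁻¹ * v⁻¹)⁻¹ = v * u * v⁻¹ * u⁻¹ := by group
  rw [e] at h2
  have h3 := disj h T h1 h2
  calc v * u = (v * u * v⁻¹ * u⁻¹) * (u * v) := by group
    _ = u * v := by rw [h3, one_mul]

/-- uniqueness of the decomposition `w y`, `w ∈ W r`, `y ∈ X s` -/
theorem uniq (h : PreY t B Φ X W Y) {r s : L} (T : Tri B Φ r s) {w w' y y' : G} (hw : w ∈ W r)
    (hw' : w' ∈ W r) (hy : y ∈ X s) (hy' : y' ∈ X s) (he : w * y = w' * y') : y = y' := by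
  have h1 : w'⁻¹ * w = y' * y⁻¹ := by
    calc w'⁻¹ * w = w'⁻¹ * (w * y) * y⁻¹ := by group
      _ = y' * y⁻¹ := by rw [he]; group
  have h2 : y' * y⁻¹ ∈ X s := mul_mem hy' (inv_mem hy)
  have h3 : y' * y⁻¹ ∈ X r := by
    apply h.cent r T.hr
    · rw [← h1]; exact mul_mem (inv_mem hw') hw
    · exact h.tX s T.hs _ h2
  have h4 := disj h T h3 h2
  exact (mul_inv_eq_one.1 h4).symm

/-- `g u g⁻¹ ∈ u W r` for `g ∈ X (r - s)`, `u ∈ W s` (`q > 2`) -/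
theorem conj_form' [Finite G] (h : PreY t B Φ X W Y) {r s : L} (T : Tri B Φ r s)
    (hN : t ∉ Fs X W r s) (hN' : t ∉ Fs X W s r) {δ : G} (hδt : δ * t = t * δ)
    (hδs : ∀ x ∈ X s, δ * x = x * δ) (hWr : ∀ w ∈ W r, δ * w * δ⁻¹ ∈ W r)
    (hWs : ∀ w ∈ W s, δ * w * δ⁻¹ ∈ W s) (hXd : ∀ x ∈ X (r - s), δ * x * δ⁻¹ ∈ X (r - s))
    (hfix : ∀ x ∈ X (r - s), δ * x = x * δ → x = 1) {g u : G} (hg : g ∈ X (r - s)) (hu : u ∈ W s) :
    ∃ w ∈ W r, g * u * g⁻¹ = u * w ∧ bt t w = g * bt t u * g⁻¹ * (bt t u)⁻¹ := by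
  -- `g = k δ k⁻¹ δ⁻¹`
  obtain ⟨k, hk, hgk⟩ := surj_of_fpf (X (r - s)) δ hXd hfix g hg
  have hsX : 0 ≤ B r s := by rw [T.rs]; norm_num
  have hrd : 0 ≤ B (r - s) r := by rw [T.dr]; norm_num
  -- `δ u δ⁻¹ = u y3`
  have hbu : bt t (δ * u * δ⁻¹) = bt t u := by
    rw [bt_conj hδt]; exact comm_conj (hδs _ (bt_mem h T.hs hu))
  obtain ⟨y3, hy3⟩ : ∃ y3, y3 = u⁻¹ * (δ * u * δ⁻¹) := ⟨_, rfl⟩
  have hy3X : y3 ∈ X s := by
    rw [hy3]
    apply mem_X_of_bt h T.hs (mul_mem (inv_mem hu) (hWs u hu))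
    rw [bt_hom h T.hs (inv_mem hu) (hWs u hu), hbu]
    have h1 := bt_hom h T.hs (inv_mem hu) hu
    rw [inv_mul_cancel, bt_of_comm h.tt (by rw [mul_one, one_mul])] at h1
    exact h1.symm
  -- the two decompositions
  have hki := inv_mem hk
  obtain ⟨w1, hw1, y1, hy1, e1, -⟩ := conj_form h T hN hki hu
  have hk2 : δ * k⁻¹ * δ⁻¹ ∈ X (r - s) := hXd _ hki
  obtain ⟨w2, hw2, y2, hy2, e2, -⟩ := conj_form h T hN hk2 hu
  -- commutation rules
  have cW : ∀ v ∈ W r, ∀ u ∈ W s, Commute v u := fun v hv u hu => comm_one h T hN hN' hv hu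
  have cWX : ∀ v ∈ W r, ∀ g ∈ X (r - s), Commute v g := fun v hv g hg =>
    h.WX r T.hr _ T.hd hrd v hv g hg
  -- conjugate `e1` by `δ`
  have e3 : (δ * k⁻¹ * δ⁻¹) * (u * y3) * (δ * k⁻¹ * δ⁻¹)⁻¹ = (u * y3) * (δ * w1 * δ⁻¹) * y1 := by
    have h1 : u * y3 = δ * u * δ⁻¹ := by rw [hy3]; group
    rw [h1]
    calc (δ * k⁻¹ * δ⁻¹) * (δ * u * δ⁻¹) * (δ * k⁻¹ * δ⁻¹)⁻¹ = δ * (k⁻¹ * u * (k⁻¹)⁻¹) * δ⁻¹ := by group
      _ = δ * (u * w1 * y1) * δ⁻¹ := by rw [e1]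
      _ = (δ * u * δ⁻¹) * (δ * w1 * δ⁻¹) * (δ * y1 * δ⁻¹) := by group
      _ = (δ * u * δ⁻¹) * (δ * w1 * δ⁻¹) * y1 := by rw [comm_conj (hδs y1 hy1)]
  -- the left side is `(u w2 y2) (x'' y3)`
  have hx'' := conj_X h T hk2 hy3X
  obtain ⟨x'', hx''e⟩ : ∃ x'', x'' = (δ * k⁻¹ * δ⁻¹) * y3 * (δ * k⁻¹ * δ⁻¹)⁻¹ * y3⁻¹ := ⟨_, rfl⟩
  rw [← hx''e] at hx''
  have e4 : (δ * k⁻¹ * δ⁻¹) * (u * y3) * (δ * k⁻¹ * δ⁻¹)⁻¹ = (u * w2 * y2) * (x'' * y3) := by
    rw [← e2, hx''e]; group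
  rw [e3] at e4
  -- cancel `u` and compare
  have hyy : y1 = y2 := by
    have c1 : Commute (δ * w1 * δ⁻¹) y3 := cW _ (hWr w1 hw1) y3 (h.XW s T.hs hy3X)
    have c2 : Commute y2 x'' := (XX h T.hr T.hs hsX hx'' hy2).symm
    have c3 : Commute y3 y1 := h.Wab s T.hs _ (h.XW s T.hs hy3X) _ (h.XW s T.hs hy1)
    have c4 : Commute y3 y2 := h.Wab s T.hs _ (h.XW s T.hs hy3X) _ (h.XW s T.hs hy2)
    have e5 : (δ * w1 * δ⁻¹) * y1 = (w2 * x'') * y2 := by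
      have h1 : u * ((δ * w1 * δ⁻¹) * y1) * y3 = u * ((w2 * x'') * y2) * y3 := by
        calc u * ((δ * w1 * δ⁻¹) * y1) * y3 = u * ((δ * w1 * δ⁻¹) * (y1 * y3)) := by group
          _ = u * ((δ * w1 * δ⁻¹) * (y3 * y1)) := by rw [c3.eq]
          _ = u * (((δ * w1 * δ⁻¹) * y3) * y1) := by group
          _ = u * ((y3 * (δ * w1 * δ⁻¹)) * y1) := by rw [c1.eq]
          _ = u * y3 * (δ * w1 * δ⁻¹) * y1 := by group
          _ = u * w2 * y2 * (x'' * y3) := e4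
          _ = u * w2 * (y2 * x'') * y3 := by group
          _ = u * w2 * (x'' * y2) * y3 := by rw [c2.eq]
          _ = _ := by group
      exact mul_left_cancel (mul_right_cancel h1)
    exact uniq h T (hWr w1 hw1) (mul_mem hw2 (h.XW r T.hr hx'')) hy1 hy2 e5
  -- `g u g⁻¹`
  have hkk : k⁻¹ * k⁻¹ = 1 := h.Xsq _ T.hd _ hki
  have hgk' : g = (δ * k⁻¹ * δ⁻¹) * k⁻¹ := by
    have c : k * (δ * k⁻¹ * δ⁻¹) = (δ * k⁻¹ * δ⁻¹) * k := XX h T.hd T.hd (rr h T.hd) hk hk2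
    have hkinv : k = k⁻¹ := (Xi h T.hd hk).symm
    rw [hgk, c]
    nth_rw 2 [hkinv]
  have hx3 := conj_X h T hk2 hy1
  obtain ⟨x3, hx3e⟩ : ∃ x3, x3 = (δ * k⁻¹ * δ⁻¹) * y1 * (δ * k⁻¹ * δ⁻¹)⁻¹ * y1⁻¹ := ⟨_, rfl⟩
  rw [← hx3e] at hx3
  have hcalc : g * u * g⁻¹ = u * (w2 * w1 * x3) := by
    have cw1 : Commute w1 (δ * k⁻¹ * δ⁻¹) := cWX w1 hw1 _ hk2
    have c5 : Commute y2 w1 := (cW w1 hw1 y2 (h.XW s T.hs hy2)).symm
    have c6 : Commute y2 x3 := (XX h T.hr T.hs hsX hx3 hy2).symm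
    have hy11 : y1 * y1 = 1 := h.Xsq s T.hs y1 hy1
    calc g * u * g⁻¹ = (δ * k⁻¹ * δ⁻¹) * (k⁻¹ * u * (k⁻¹)⁻¹) * (δ * k⁻¹ * δ⁻¹)⁻¹ := by
          rw [hgk']; group
      _ = (δ * k⁻¹ * δ⁻¹) * (u * w1 * y1) * (δ * k⁻¹ * δ⁻¹)⁻¹ := by rw [e1]
      _ = ((δ * k⁻¹ * δ⁻¹) * u * (δ * k⁻¹ * δ⁻¹)⁻¹) * ((δ * k⁻¹ * δ⁻¹) * w1 * (δ * k⁻¹ * δ⁻¹)⁻¹) *
          ((δ * k⁻¹ * δ⁻¹) * y1 * (δ * k⁻¹ * δ⁻¹)⁻¹ * y1⁻¹) * y1 := by group
      _ = (u * w2 * y2) * w1 * x3 * y1 := by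
          rw [e2, comm_conj cw1.symm.eq, ← hx3e]
      _ = u * w2 * (y2 * w1) * x3 * y1 := by group
      _ = u * w2 * w1 * (y2 * x3) * y1 := by rw [c5.eq]; group
      _ = u * w2 * w1 * x3 * (y2 * y1) := by rw [c6.eq]; group
      _ = u * (w2 * w1 * x3) := by rw [← hyy, hy11, mul_one]; group
  have hw3 : w2 * w1 * x3 ∈ W r := mul_mem (mul_mem hw2 hw1) (h.XW r T.hr hx3)
  refine ⟨_, hw3, hcalc, ?_⟩
  obtain ⟨w4, hw4, y4, hy4, e6, hb⟩ := conj_form h T hN hg hu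
  have h1 : w2 * w1 * x3 = w4 * y4 := by
    have : u * (w2 * w1 * x3) = u * (w4 * y4) := by rw [← hcalc, e6]; group
    exact mul_left_cancel this
  have h2 : (1 : G) = y4 := uniq h T hw3 hw4 (one_mem _) hy4 (by rw [mul_one]; exact h1)
  rw [h1, ← h2, mul_one]
  exact hb

end Cfsg.Agent.OddHalf.SL.One

end
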